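import Mathlib

set_option autoImplicit false

/-! Orbit counting: if all stabilizers have the same order `k`, then `|A| / k` divides `|Y|`. -/

namespace Cfsg.Agent.Lib.Helper11.Dickson

open MulAction

theorem card_dvd_of_card_stabilizer {A Y : Type*} [Group A] [Finite A] [MulAction A Y] [Finite Y]
    (k : ℕ) (h : ∀ y : Y, Nat.card (stabilizer A y) = k) : Nat.card A / k ∣ Nat.card Y := by
  classical
  haveI : Fintype (Quotient (orbitRel A Y)) := Fintype.ofFinite _
  rw [Nat.card_congr (selfEquivSigmaOrbitsQuotientStabilizer A Y), Nat.card_sigma]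
  apply Finset.dvd_sum
  intro ω _
  have h1 : Nat.card (A ⧸ stabilizer A ω.out) * Nat.card (stabilizer A ω.out) = Nat.card A :=
    (Subgroup.card_eq_card_quotient_mul_card_subgroup _).symm
  rw [h] at h1
  have hk : 0 < k := by
    rcases Nat.eq_zero_or_pos k with hk | hk
    · rw [hk, mul_zero] at h1
      exact absurd h1.symm (Nat.card_pos (α := A)).ne'
    · exact hk
  rw [← h1, Nat.mul_div_cancel _ hk]

/-- a free action of a group on a set of the same cardinality is transitive -/
theorem exists_smul_eq_of_free {A Y : Type*} [Group A] [Finite A] [MulAction A Y] [Finite Y]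
    (hfree : ∀ (a : A) (y : Y), a • y = y → a = 1) (hcard : Nat.card Y = Nat.card A) (x y : Y) :
    ∃ a : A, a • x = y := by
  have hinj : Function.Injective (fun a : A => a • x) := by
    intro a b hab
    have h1 : (b⁻¹ * a) • x = x := by
      rw [mul_smul]
      have : a • x = b • x := hab
      rw [this, inv_smul_smul]
    have h2 := hfree _ _ h1
    have : a = b * (b⁻¹ * a) := by group
    rw [this, h2, mul_one]
  have hbij : Function.Bijective (fun a : A => a • x) := by
    rw [Nat.bijective_iff_injective_and_card]
    exact ⟨hinj, hcard.symm⟩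
  exact hbij.2 y

end Cfsg.Agent.Lib.Helper11.Dickson
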