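import Mathlib
import Cfsg.Agent.Lib.Helper11.Dickson.OrbitCard

set_option autoImplicit false

namespace Cfsg.Agent.Lib.Helper11.Dickson

open MulAction

/-- hypotheses for the fixed point count: a finite group acting so that every nonidentity element
has one or two fixed points; `P` is the (abelian) group of elements with one fixed point `ω₀`. -/
structure FixHyp (G : Type*) [Group G] (X : Type*) [MulAction G X] (ω₀ : X) (P : Subgroup G) :
    Prop where
  fix12 : ∀ γ : G, γ ≠ 1 → (fixedBy X γ).ncard = 1 ∨ (fixedBy X γ).ncard = 2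
  memP : ∀ γ : G, γ ∈ P ↔ γ = 1 ∨ ((fixedBy X γ).ncard = 1 ∧ γ • ω₀ = ω₀)
  comm : ∀ a ∈ P, ∀ b ∈ P, a * b = b * a
  parOrb : ∀ γ : G, γ ≠ 1 → (fixedBy X γ).ncard = 1 → ∀ x, γ • x = x → x ∈ orbit G ω₀
  moves : ∃ γ : G, γ • ω₀ ≠ ω₀
  card3 : 3 ≤ Nat.card P

variable {G : Type*} [Group G] {X : Type*} [MulAction G X] {ω₀ : X} {P : Subgroup G}

namespace FixHyp

theorem eq_of_par (_h : FixHyp G X ω₀ P) {γ : G} (h1 : (fixedBy X γ).ncard = 1) {x y : X}
    (hx : γ • x = x) (hy : γ • y = y) : x = y := by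
  obtain ⟨a, ha⟩ := Set.ncard_eq_one.mp h1
  have hx' : x ∈ fixedBy X γ := hx
  have hy' : y ∈ fixedBy X γ := hy
  rw [ha] at hx' hy'
  rw [Set.mem_singleton_iff.mp hx', Set.mem_singleton_iff.mp hy']

theorem ncard_fixedBy_conj (h γ : G) :
    (fixedBy X (h * γ * h⁻¹)).ncard = (fixedBy X γ).ncard := by
  rw [← smul_fixedBy, ← Set.image_smul]
  exact Set.ncard_image_of_injective _ (MulAction.injective h)

theorem le_stabilizer (h : FixHyp G X ω₀ P) : P ≤ stabilizer G ω₀ := by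
  intro u hu
  rcases (h.memP u).mp hu with rfl | ⟨-, h2⟩
  · exact Subgroup.one_mem _
  · exact h2

theorem par_of_mem (h : FixHyp G X ω₀ P) {u : G} (hu : u ∈ P) (hu1 : u ≠ 1) :
    (fixedBy X u).ncard = 1 ∧ u • ω₀ = ω₀ := by
  rcases (h.memP u).mp hu with h1 | h1
  · exact absurd h1 hu1
  · exact h1

theorem eq_base_of_fixed (h : FixHyp G X ω₀ P) {u : G} (hu : u ∈ P) (hu1 : u ≠ 1) {x : X}
    (hx : u • x = x) : x = ω₀ :=
  h.eq_of_par (h.par_of_mem hu hu1).1 hx (h.par_of_mem hu hu1).2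

theorem exists_ne_one (h : FixHyp G X ω₀ P) : ∃ u ∈ P, u ≠ 1 := by
  by_contra hcon
  push Not at hcon
  have : P = ⊥ := by
    rw [eq_bot_iff]
    intro u hu
    exact Subgroup.mem_bot.mpr (hcon u hu)
  have h3 := h.card3
  rw [this, Subgroup.card_bot] at h3
  omega

/-- conjugation by the stabilizer preserves `P` -/
theorem conj_mem (h : FixHyp G X ω₀ P) {s : G} (hs : s ∈ stabilizer G ω₀) {u : G} (hu : u ∈ P) :
    s * u * s⁻¹ ∈ P := by
  by_cases hu1 : u = 1
  · rw [hu1, mul_one, mul_inv_cancel]; exact Subgroup.one_mem _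
  · obtain ⟨h1, h2⟩ := h.par_of_mem hu hu1
    rw [h.memP]
    right
    refine ⟨by rw [ncard_fixedBy_conj]; exact h1, ?_⟩
    have hs' : s • ω₀ = ω₀ := hs
    have hs'' : s⁻¹ • ω₀ = ω₀ := by
      rw [inv_smul_eq_iff, hs']
    rw [mul_smul, mul_smul, hs'', h2, hs']

end FixHyp

end Cfsg.Agent.Lib.Helper11.Dickson
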