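import Mathlib
import Cfsg.Agent.Lib.Helper11.Dickson.OrbitCard
import Cfsg.Agent.Lib.Helper11.Dickson.FixCountA

set_option autoImplicit false

namespace Cfsg.Agent.Lib.Helper11.Dickson

open MulAction

variable {G : Type*} [Group G] {X : Type*} [MulAction G X] {ω₀ : X} {P : Subgroup G}

namespace FixHyp

/-- the punctured orbit, acted on by `P` -/
def punct (h : FixHyp G X ω₀ P) : SubMulAction ↥P X where
  carrier := {x | x ∈ orbit G ω₀ ∧ x ≠ ω₀}
  smul_mem' := by
    rintro u x ⟨hx1, hx2⟩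
    refine ⟨?_, ?_⟩
    · obtain ⟨g, rfl⟩ := hx1
      exact ⟨(u : G) * g, mul_smul _ _ _⟩
    · intro hux
      apply hx2
      have h1 : (u : G) • x = ω₀ := hux
      have h2 : (u : G) • ω₀ = ω₀ := h.le_stabilizer u.2
      have h3 : (u : G) • x = (u : G) • ω₀ := by rw [h1, h2]
      exact MulAction.injective (u : G) h3

theorem mem_punct (h : FixHyp G X ω₀ P) (x : X) : x ∈ h.punct ↔ x ∈ orbit G ω₀ ∧ x ≠ ω₀ :=
  Iff.rfl

theorem punct_free (h : FixHyp G X ω₀ P) (u : ↥P) (y : ↥h.punct) (huy : u • y = y) : u = 1 := by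
  by_contra hu1
  have h1 : (u : G) • (y : X) = (y : X) := congrArg Subtype.val huy
  have hu1' : (u : G) ≠ 1 := fun h' => hu1 (Subtype.ext h')
  exact y.2.2 (h.eq_base_of_fixed u.2 hu1' h1)

variable [Finite G]

instance (h : FixHyp G X ω₀ P) : Finite ↥h.punct := by
  have h1 : (orbit G ω₀).Finite := Set.finite_range _
  exact (h1.subset (fun x hx => hx.1)).to_subtype

theorem card_punct (h : FixHyp G X ω₀ P) :
    Nat.card ↥h.punct + 1 = Nat.card (orbit G ω₀) := by
  have h1 : (orbit G ω₀).Finite := Set.finite_range _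
  have h2 : ((h.punct : SubMulAction ↥P X) : Set X) = orbit G ω₀ \ {ω₀} := by
    ext x
    simp only [Set.mem_sdiff, Set.mem_singleton_iff]
    exact Iff.rfl
  have h3 : Nat.card ↥h.punct = (orbit G ω₀ \ {ω₀}).ncard := by
    rw [← h2]
    exact (Nat.card_coe_set_eq _)
  rw [h3, Nat.card_coe_set_eq, Set.ncard_sdiff_singleton_add_one (mem_orbit_self ω₀) h1]

/-- `|P|` divides `n - 1` -/
theorem card_dvd_punct (h : FixHyp G X ω₀ P) : Nat.card P ∣ Nat.card ↥h.punct := by
  have h1 := card_dvd_of_card_stabilizer (A := ↥P) (Y := ↥h.punct) 1 (by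
    intro y
    have : stabilizer ↥P y = ⊥ := by
      rw [eq_bot_iff]
      intro u hu
      exact Subgroup.mem_bot.mpr (h.punct_free u y hu)
    rw [this, Subgroup.card_bot])
  rwa [Nat.div_one] at h1

/-- transitivity of `P` on the punctured orbit when it has `|P|` elements -/
theorem transitive_of_card (h : FixHyp G X ω₀ P) (hc : Nat.card ↥h.punct = Nat.card P)
    {x y : X} (hx : x ∈ orbit G ω₀) (hx0 : x ≠ ω₀) (hy : y ∈ orbit G ω₀) (hy0 : y ≠ ω₀) :
    ∃ u ∈ P, u • x = y := by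
  obtain ⟨u, hu⟩ := exists_smul_eq_of_free (A := ↥P) (Y := ↥h.punct) h.punct_free hc
    ⟨x, hx, hx0⟩ ⟨y, hy, hy0⟩
  exact ⟨u, u.2, congrArg Subtype.val hu⟩

end FixHyp

end Cfsg.Agent.Lib.Helper11.Dickson
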