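import Mathlib
import Cfsg.Agent.Lib.Helper11.Dickson.FixCountB

set_option autoImplicit false

namespace Cfsg.Agent.Lib.Helper11.Dickson

open MulAction
open scoped Pointwise
set_option linter.style.haveILetI false
set_option linter.unusedSectionVars false

variable {G : Type*} [Group G] {X : Type*} [MulAction G X] {ω₀ : X} {P : Subgroup G}

namespace FixHyp

/-- the nonidentity elements of `P`, acted on by the stabilizer by conjugation -/
@[reducible] def conjAction (h : FixHyp G X ω₀ P) :
    MulAction ↥(stabilizer G ω₀) {u : G // u ∈ P ∧ u ≠ 1} where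
  smul s u := ⟨(s : G) * u * (s : G)⁻¹, h.conj_mem s.2 u.2.1, fun h' => u.2.2 (by
    have : (u : G) = (s : G)⁻¹ * ((s : G) * u * (s : G)⁻¹) * (s : G) := by group
    rw [this, h']; group)⟩
  one_smul u := by
    apply Subtype.ext
    show ((1 : ↥(stabilizer G ω₀)) : G) * u * ((1 : ↥(stabilizer G ω₀)) : G)⁻¹ = u
    simp
  mul_smul s t u := by
    apply Subtype.ext
    show ((s * t : ↥(stabilizer G ω₀)) : G) * u * ((s * t : ↥(stabilizer G ω₀)) : G)⁻¹ =
      (s : G) * ((t : G) * u * (t : G)⁻¹) * (s : G)⁻¹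
    rw [Subgroup.coe_mul]
    group

theorem conjAction_smul (h : FixHyp G X ω₀ P) (s : ↥(stabilizer G ω₀))
    (u : {u : G // u ∈ P ∧ u ≠ 1}) :
    ((h.conjAction.smul s u : {u : G // u ∈ P ∧ u ≠ 1}) : G) = (s : G) * u * (s : G)⁻¹ := rfl

/-- an element of the stabilizer commuting with a nonidentity element of `P` lies in `P` -/
theorem mem_of_commute (h : FixHyp G X ω₀ P) {s u : G} (hs : s ∈ stabilizer G ω₀) (hu : u ∈ P)
    (hu1 : u ≠ 1) (hc : s * u * s⁻¹ = u) : s ∈ P := by
  by_cases hs1 : s = 1
  · rw [hs1]; exact Subgroup.one_mem _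
  rcases h.fix12 s hs1 with h1 | h2
  · exact (h.memP s).mpr (Or.inr ⟨h1, hs⟩)
  · exfalso
    obtain ⟨a, b, hab, hfix⟩ := Set.ncard_eq_two.mp h2
    have hω : ω₀ ∈ fixedBy X s := hs
    -- `u` preserves the fixed point set of `s`
    have hinv : ∀ y ∈ fixedBy X s, u • y ∈ fixedBy X s := by
      intro y hy
      have hus : u * s * u⁻¹ = s := by
        have : s * u = u * s := by
          calc s * u = (s * u * s⁻¹) * s := by group
            _ = u * s := by rw [hc]
        calc u * s * u⁻¹ = (s * u) * u⁻¹ := by rw [this]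
          _ = s := by group
      have h3 : u • y ∈ u • fixedBy X s := Set.smul_mem_smul_set hy
      rwa [smul_fixedBy, hus] at h3
    -- the other fixed point
    obtain ⟨y, hy, hyω⟩ : ∃ y ∈ fixedBy X s, y ≠ ω₀ := by
      by_cases ha : a = ω₀
      · exact ⟨b, by rw [hfix]; simp, fun hb => hab (by rw [ha, hb])⟩
      · exact ⟨a, by rw [hfix]; simp, ha⟩
    have huy : u • y ∈ fixedBy X s := hinv y hy
    have huyω : u • y ≠ ω₀ := by
      intro h'
      apply hyω
      have h2 : u • ω₀ = ω₀ := (h.par_of_mem hu hu1).2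
      have : u • y = u • ω₀ := by rw [h', h2]
      exact MulAction.injective u this
    have hyy : u • y = y := by
      rw [hfix] at huy hy hω
      simp only [Set.mem_insert_iff, Set.mem_singleton_iff] at huy hy hω
      rcases hω with hω | hω <;> rcases hy with hy | hy <;> rcases huy with huy | huy
      all_goals first
        | (exfalso; apply hyω; rw [hy, hω]; done)
        | (exfalso; apply huyω; rw [huy, hω]; done)
        | (rw [huy, hy]; done)
    exact hyω (h.eq_base_of_fixed hu hu1 hyy)

variable [Finite G]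

theorem card_stabilizer_conjAction (h : FixHyp G X ω₀ P) (u : {u : G // u ∈ P ∧ u ≠ 1}) :
    Nat.card (@stabilizer ↥(stabilizer G ω₀) _ _ h.conjAction u) = Nat.card P := by
  letI := h.conjAction
  have h1 : stabilizer ↥(stabilizer G ω₀) u = P.subgroupOf (stabilizer G ω₀) := by
    ext s
    rw [mem_stabilizer_iff, Subgroup.mem_subgroupOf]
    constructor
    · intro hs
      have h2 : (s : G) * u * (s : G)⁻¹ = u := congrArg Subtype.val hs
      exact h.mem_of_commute s.2 u.2.1 u.2.2 h2
    · intro hs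
      apply Subtype.ext
      show (s : G) * u * (s : G)⁻¹ = u
      rw [h.comm _ hs _ u.2.1]
      group
  rw [h1]
  exact Nat.card_congr (Subgroup.subgroupOfEquivOfLe h.le_stabilizer).toEquiv

/-- `|G_ω₀| / |P|` divides `|P| - 1` -/
theorem index_dvd (h : FixHyp G X ω₀ P) :
    Nat.card (stabilizer G ω₀) / Nat.card P ∣ Nat.card P - 1 := by
  letI := h.conjAction
  haveI : Finite {u : G // u ∈ P ∧ u ≠ 1} := Subtype.finite
  have h1 := card_dvd_of_card_stabilizer (A := ↥(stabilizer G ω₀))
    (Y := {u : G // u ∈ P ∧ u ≠ 1}) (Nat.card P) (fun u => h.card_stabilizer_conjAction u)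
  have h2 : Nat.card {u : G // u ∈ P ∧ u ≠ 1} = Nat.card P - 1 := by
    have e : {u : G // u ∈ P ∧ u ≠ 1} ≃ {u : ↥P // u ≠ 1} :=
      { toFun := fun u => ⟨⟨u.1, u.2.1⟩, fun h' => u.2.2 (congrArg Subtype.val h')⟩
        invFun := fun u => ⟨u.1.1, u.1.2, fun h' => u.2 (Subtype.ext h')⟩
        left_inv := fun u => rfl
        right_inv := fun u => rfl }
    rw [Nat.card_congr e]
    classical
    haveI : Fintype ↥P := Fintype.ofFinite _
    rw [Nat.card_eq_fintype_card, Fintype.card_subtype_compl, Nat.card_eq_fintype_card]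
    simp
  rwa [h2] at h1

end FixHyp

end Cfsg.Agent.Lib.Helper11.Dickson
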