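import Mathlib
import Cfsg.Agent.Lib.Helper11.Dickson.FixCountC

set_option autoImplicit false

namespace Cfsg.Agent.Lib.Helper11.Dickson

open MulAction
open scoped Pointwise
set_option linter.style.haveILetI false
set_option linter.unusedSectionVars false

variable {G : Type*} [Group G] {X : Type*} [MulAction G X] {ω₀ : X} {P : Subgroup G}

/-- points with a nontrivial stabilizer -/
def sing (G : Type*) [Group G] (X : Type*) [MulAction G X] : Set X :=
  {x | ∃ γ : G, γ ≠ 1 ∧ γ • x = x}

theorem double_count {A B : Type*} [Fintype A] (Sf : Finset B) (p : A → B → Prop)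
    [∀ γ x, Decidable (p γ x)] :
    ∑ γ : A, (Sf.filter (fun x => p γ x)).card =
      ∑ x ∈ Sf, (Finset.univ.filter (fun γ => p γ x)).card := by
  simp_rw [Finset.card_filter]
  exact Finset.sum_comm

theorem double_count' {A B : Type*} (Af : Finset A) (Sf : Finset B) (p : A → B → Prop)
    [∀ γ x, Decidable (p γ x)] :
    ∑ γ ∈ Af, (Sf.filter (fun x => p γ x)).card =
      ∑ x ∈ Sf, (Af.filter (fun γ => p γ x)).card := by
  simp_rw [Finset.card_filter]
  exact Finset.sum_comm

theorem card_stabilizer_eq [Fintype G] [DecidableEq G] [DecidableEq X] (x : X) :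
    (Finset.univ.filter (fun γ : G => γ ≠ 1 ∧ γ • x = x)).card =
      Nat.card (stabilizer G x) - 1 := by
  have h1 : Nat.card (stabilizer G x) = (Finset.univ.filter (fun γ : G => γ • x = x)).card := by
    rw [Nat.card_eq_fintype_card, ← Fintype.card_subtype]
    exact Fintype.card_congr (Equiv.refl _)
  have h2 : Finset.univ.filter (fun γ : G => γ ≠ 1 ∧ γ • x = x) =
      (Finset.univ.filter (fun γ : G => γ • x = x)).erase 1 := by
    ext γ
    simp [and_comm]
  rw [h1, h2, Finset.card_erase_of_mem (by simp)]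

theorem card_orbit_mul [Finite G] (x : X) :
    Nat.card (orbit G x) * Nat.card (stabilizer G x) = Nat.card G := by
  classical
  haveI : Fintype G := Fintype.ofFinite G
  haveI : Finite (orbit G x) := Set.finite_range _
  haveI : Fintype (orbit G x) := Fintype.ofFinite _
  haveI : Fintype (stabilizer G x) := Fintype.ofFinite _
  rw [Nat.card_eq_fintype_card, Nat.card_eq_fintype_card, Nat.card_eq_fintype_card]
  exact card_orbit_mul_card_stabilizer_eq_card_group G x

theorem card_stabilizer_smul [Finite G] (k : G) (x : X) :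
    Nat.card (stabilizer G (k • x)) = Nat.card (stabilizer G x) := by
  rw [stabilizer_smul_eq_stabilizer_map_conj]
  exact Nat.card_congr ((stabilizer G x).equivMapOfInjective _ (MulEquiv.injective _)).toEquiv.symm

namespace FixHyp

variable [Finite G]

theorem sing_finite (h : FixHyp G X ω₀ P) : (sing G X).Finite := by
  have : sing G X = ⋃ γ ∈ {γ : G | γ ≠ 1}, fixedBy X γ := by
    ext x
    simp only [sing, Set.mem_ofPred_eq, Set.mem_iUnion, mem_fixedBy, exists_prop]
  rw [this]
  exact Set.Finite.biUnion (Set.toFinite _) (fun γ hγ => Set.finite_of_ncard_ne_zero (by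
    rcases h.fix12 γ hγ with h1 | h1 <;> omega))

theorem orbit_subset_sing (h : FixHyp G X ω₀ P) : orbit G ω₀ ⊆ sing G X := by
  rintro _ ⟨k, rfl⟩
  obtain ⟨u, hu, hu1⟩ := h.exists_ne_one
  refine ⟨k * u * k⁻¹, ?_, ?_⟩
  · intro h'
    apply hu1
    have : u = k⁻¹ * (k * u * k⁻¹) * k := by group
    rw [this, h']; group
  · show (k * u * k⁻¹) • k • ω₀ = k • ω₀
    rw [mul_smul, inv_smul_smul, mul_smul, (h.par_of_mem hu hu1).2]

theorem sing_smul {x : X} (hx : x ∈ sing G X) (k : G) : k • x ∈ sing G X := by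
  obtain ⟨γ, hγ, hγx⟩ := hx
  refine ⟨k * γ * k⁻¹, ?_, ?_⟩
  · intro h'
    apply hγ
    have : γ = k⁻¹ * (k * γ * k⁻¹) * k := by group
    rw [this, h']; group
  · rw [mul_smul, inv_smul_smul, mul_smul, hγx]

theorem two_le_card_stabilizer {x : X} (hx : x ∈ sing G X) : 2 ≤ Nat.card (stabilizer G x) := by
  obtain ⟨γ, hγ, hγx⟩ := hx
  have : Nontrivial (stabilizer G x) :=
    ⟨⟨⟨γ, hγx⟩, 1, fun h' => hγ (congrArg Subtype.val h')⟩⟩
  exact Finite.one_lt_card

end FixHyp

end Cfsg.Agent.Lib.Helper11.Dickson
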