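import Mathlib
import Cfsg.Agent.Lib.Helper11.Dickson.FixCountD

set_option autoImplicit false

namespace Cfsg.Agent.Lib.Helper11.Dickson

open MulAction
open scoped Pointwise
set_option linter.style.haveILetI false
set_option linter.unusedSectionVars false

variable {G : Type*} [Group G] {X : Type*} [MulAction G X] {ω₀ : X} {P : Subgroup G}

namespace FixHyp

variable [Fintype G] [DecidableEq G] [DecidableEq X]

theorem sum_rows (h : FixHyp G X ω₀ P) :
    ∑ γ : G, (if γ = 1 then 0 else (fixedBy X γ).ncard) =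
      ∑ x ∈ h.sing_finite.toFinset, (Nat.card (stabilizer G x) - 1) := by
  rw [← Finset.sum_congr rfl (fun x _ => card_stabilizer_eq x), ← double_count]
  apply Finset.sum_congr rfl
  intro γ _
  split_ifs with h1
  · symm
    rw [Finset.card_eq_zero, Finset.filter_eq_empty_iff]
    intro x _ hx
    exact hx.1 h1
  · rw [← Set.ncard_coe_finset]
    congr 1
    ext x
    simp only [Finset.coe_filter, Set.Finite.mem_toFinset, Set.mem_ofPred_eq, mem_fixedBy]
    constructor
    · intro hx
      exact ⟨⟨γ, h1, hx⟩, h1, hx⟩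
    · intro hx
      exact hx.2.2

theorem rows_par (h : FixHyp G X ω₀ P) :
    ∑ γ : G, (if γ = 1 then 0 else (fixedBy X γ).ncard) +
      (Finset.univ.filter (fun γ : G => γ ≠ 1 ∧ (fixedBy X γ).ncard = 1)).card =
      2 * (Fintype.card G - 1) := by
  rw [Finset.card_filter, ← Finset.sum_add_distrib]
  have h1 : ∀ γ : G, ((if γ = 1 then 0 else (fixedBy X γ).ncard) +
      (if γ ≠ 1 ∧ (fixedBy X γ).ncard = 1 then 1 else 0)) = if γ = 1 then 0 else 2 := by
    intro γ
    by_cases hγ : γ = 1
    · simp [hγ]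
    · rcases h.fix12 γ hγ with h2 | h2
      · simp [hγ, h2]
      · simp [hγ, h2]
  rw [Finset.sum_congr rfl (fun γ _ => h1 γ)]
  rw [← Finset.sum_erase (Finset.univ : Finset G) (a := 1) (by simp)]
  rw [Finset.sum_congr rfl (g := fun _ => 2) (by
    intro γ hγ
    rw [Finset.mem_erase] at hγ
    simp [hγ.1])]
  rw [Finset.sum_const, Finset.card_erase_of_mem (Finset.mem_univ _), Finset.card_univ,
    smul_eq_mul, mul_comm]

theorem sum_orbit [Finite G] (x₀ : X) (Of : Finset X) (hOf : ∀ x, x ∈ Of ↔ x ∈ orbit G x₀) :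
    ∑ x ∈ Of, (Nat.card (stabilizer G x) - 1) = Of.card * (Nat.card (stabilizer G x₀) - 1) := by
  rw [Finset.sum_congr rfl (g := fun _ => Nat.card (stabilizer G x₀) - 1) (by
    intro x hx
    obtain ⟨k, rfl⟩ := (hOf x).mp hx
    show Nat.card (stabilizer G (k • x₀)) - 1 = _
    rw [card_stabilizer_smul])]
  rw [Finset.sum_const, smul_eq_mul]

theorem card_orbit_finset [Finite G] (x₀ : X) (Of : Finset X)
    (hOf : ∀ x, x ∈ Of ↔ x ∈ orbit G x₀) : Of.card = Nat.card (orbit G x₀) := by
  rw [Nat.card_coe_set_eq, ← Set.ncard_coe_finset]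
  congr 1
  ext x
  exact hOf x

theorem npar (h : FixHyp G X ω₀ P) (Ωf : Finset X) (hΩf : ∀ x, x ∈ Ωf ↔ x ∈ orbit G ω₀) :
    (Finset.univ.filter (fun γ : G => γ ≠ 1 ∧ (fixedBy X γ).ncard = 1)).card =
      Ωf.card * (Nat.card P - 1) := by
  haveI : DecidablePred (fun u : G => u ∈ P) := Classical.decPred _
  obtain ⟨Par, hPar⟩ : ∃ Par : Finset G,
      Par = Finset.univ.filter (fun γ : G => γ ≠ 1 ∧ (fixedBy X γ).ncard = 1) := ⟨_, rfl⟩
  rw [← hPar]
  have hmem : ∀ γ, γ ∈ Par ↔ γ ≠ 1 ∧ (fixedBy X γ).ncard = 1 := by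
    intro γ; rw [hPar]; simp
  have h1 : ∑ γ ∈ Par, (Ωf.filter (fun x => γ • x = x)).card = Par.card := by
    rw [Finset.card_eq_sum_ones]
    apply Finset.sum_congr rfl
    intro γ hγ
    obtain ⟨hγ1, hγ2⟩ := (hmem γ).mp hγ
    obtain ⟨a, ha⟩ := Set.ncard_eq_one.mp hγ2
    have haf : γ • a = a := by
      have : a ∈ fixedBy X γ := by rw [ha]; exact Set.mem_singleton a
      exact this
    have haΩ : a ∈ Ωf := (hΩf a).mpr (h.parOrb γ hγ1 hγ2 a haf)
    rw [Finset.card_eq_one]
    refine ⟨a, ?_⟩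
    ext x
    simp only [Finset.mem_filter, Finset.mem_singleton]
    constructor
    · rintro ⟨-, hx⟩
      exact h.eq_of_par hγ2 hx haf
    · rintro rfl
      exact ⟨haΩ, haf⟩
  have h2 : ∀ x ∈ Ωf, (Par.filter (fun γ => γ • x = x)).card = Nat.card P - 1 := by
    intro x hx
    obtain ⟨k, rfl⟩ := (hΩf x).mp hx
    have h3 : Par.filter (fun γ => γ • (k • ω₀) = k • ω₀) =
        ((Finset.univ.filter (fun u : G => u ∈ P)).erase 1).image (fun u => k * u * k⁻¹) := by
      ext γ
      simp only [Finset.mem_filter, Finset.mem_image, Finset.mem_erase, Finset.mem_univ,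
        true_and, hmem]
      constructor
      · rintro ⟨⟨hγ1, hγ2⟩, hγ3⟩
        refine ⟨k⁻¹ * γ * k, ⟨?_, ?_⟩, by group⟩
        · intro h'
          apply hγ1
          have : γ = k * (k⁻¹ * γ * k) * k⁻¹ := by group
          rw [this, h']; group
        · rw [h.memP]
          right
          constructor
          · have := ncard_fixedBy_conj (X := X) k⁻¹ γ
            rw [inv_inv] at this
            rw [this]; exact hγ2
          · rw [mul_smul, mul_smul, hγ3, inv_smul_smul]
      · rintro ⟨u, ⟨hu1, hu⟩, rfl⟩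
        obtain ⟨h4, h5⟩ := h.par_of_mem hu hu1
        refine ⟨⟨?_, ?_⟩, ?_⟩
        · intro h'
          apply hu1
          have : u = k⁻¹ * (k * u * k⁻¹) * k := by group
          rw [this, h']; group
        · rw [ncard_fixedBy_conj]; exact h4
        · rw [mul_smul, inv_smul_smul, mul_smul, h5]
    rw [h3, Finset.card_image_of_injective _ (by
      intro u v huv
      have h4 : k * u * k⁻¹ = k * v * k⁻¹ := huv
      have : u = k⁻¹ * (k * u * k⁻¹) * k := by group
      rw [this, h4]; group)]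
    rw [Finset.card_erase_of_mem (by simp [Subgroup.one_mem])]
    congr 1
    rw [Nat.card_eq_fintype_card, ← Fintype.card_subtype]
  rw [← h1, double_count', Finset.sum_congr rfl h2, Finset.sum_const, smul_eq_mul]

end FixHyp

end Cfsg.Agent.Lib.Helper11.Dickson
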