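import Mathlib
import Cfsg.Agent.Lib.Helper11.Dickson.FixCountE

set_option autoImplicit false

namespace Cfsg.Agent.Lib.Helper11.Dickson

open MulAction
open scoped Pointwise
set_option linter.style.haveILetI false
set_option linter.unusedSectionVars false

theorem arith {n q c r m : ℕ} (hn : n = 1 + r * q) (hr : 1 ≤ r) (hq : 3 ≤ q) (hc : c ∣ q - 1)
    (hm : m = n * (q - 2) + 2) (hdvd : m ∣ n * (q * c)) : r = 1 ∨ q = 3 := by
  obtain ⟨q', rfl⟩ : ∃ q', q = q' + 2 := ⟨q - 2, by omega⟩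
  have hq' : 1 ≤ q' := by omega
  have hc0 : 0 < c := by
    rcases Nat.eq_zero_or_pos c with h | h
    · rw [h] at hc
      have := Nat.eq_zero_of_zero_dvd hc
      omega
    · exact h
  have hcle : c ≤ q' + 1 := by
    have := Nat.le_of_dvd (by omega) hc
    omega
  obtain ⟨D, hD⟩ : ∃ D, D = 1 + r * q' := ⟨_, rfl⟩
  have hmD : m = (q' + 2) * D := by
    rw [hm, hn, hD]
    have : q' + 2 - 2 = q' := by omega
    rw [this]; ring
  have hnD : n = D + 2 * r := by rw [hn, hD]; ring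
  have h1 : D ∣ n * c := by
    rw [hmD] at hdvd
    have : (q' + 2) * D ∣ (q' + 2) * (n * c) := by
      have e : n * ((q' + 2) * c) = (q' + 2) * (n * c) := by ring
      rwa [e] at hdvd
    exact Nat.dvd_of_mul_dvd_mul_left (by omega) this
  have h2 : D ∣ r * (2 * c) := by
    rw [hnD] at h1
    have e : (D + 2 * r) * c = D * c + r * (2 * c) := by ring
    rw [e] at h1
    exact (Nat.dvd_add_right (dvd_mul_right D c)).mp h1
  have hcop : Nat.Coprime D r := by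
    rw [hD]
    have : Nat.Coprime (1 + r * q') r := by
      rw [Nat.coprime_comm]
      apply Nat.Coprime.symm
      rw [add_comm, mul_comm]
      simp
    exact this
  have h3 : D ∣ 2 * c := hcop.dvd_of_dvd_mul_left h2
  have h4 : D ≤ 2 * c := Nat.le_of_dvd (by omega) h3
  rcases Nat.lt_or_ge r 2 with hr2 | hr2
  · left; omega
  rcases Nat.lt_or_ge r 3 with hr3 | hr3
  · exfalso
    have hr' : r = 2 := by omega
    rw [hr'] at hD
    have hcop2 : Nat.Coprime D 2 := by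
      rw [hD]
      have : (1 + 2 * q') % 2 = 1 := by omega
      rw [Nat.coprime_two_right]
      exact Nat.odd_iff.mpr this
    have h5 : D ∣ c := hcop2.dvd_of_dvd_mul_left h3
    have h6 := Nat.le_of_dvd hc0 h5
    omega
  · right
    have h5 : 3 * q' ≤ r * q' := Nat.mul_le_mul_right q' hr3
    omega

variable {G : Type*} [Group G] {X : Type*} [MulAction G X] {ω₀ : X} {P : Subgroup G}

namespace FixHyp

/-- the main counting theorem: `|P| = 3` or `P` is regular on the punctured orbit -/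
theorem card_punct_eq [Finite G] (h : FixHyp G X ω₀ P) :
    Nat.card P = 3 ∨ Nat.card ↥h.punct = Nat.card P := by
  classical
  haveI : Fintype G := Fintype.ofFinite G
  obtain ⟨g, hg⟩ : ∃ g, g = Nat.card G := ⟨_, rfl⟩
  obtain ⟨q, hq⟩ : ∃ q, q = Nat.card P := ⟨_, rfl⟩
  obtain ⟨s₀, hs₀⟩ : ∃ s₀, s₀ = Nat.card (stabilizer G ω₀) := ⟨_, rfl⟩
  obtain ⟨n, hn⟩ : ∃ n, n = Nat.card (orbit G ω₀) := ⟨_, rfl⟩
  have hq3 : 3 ≤ q := hq ▸ h.card3
  -- the finite sets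
  have hΩfin : (orbit G ω₀).Finite := Set.finite_range _
  obtain ⟨Ωf, hΩf⟩ : ∃ Ωf : Finset X, Ωf = hΩfin.toFinset := ⟨_, rfl⟩
  obtain ⟨Sf, hSf⟩ : ∃ Sf : Finset X, Sf = h.sing_finite.toFinset := ⟨_, rfl⟩
  have hΩmem : ∀ x, x ∈ Ωf ↔ x ∈ orbit G ω₀ := fun x => by rw [hΩf]; simp
  have hSmem : ∀ x, x ∈ Sf ↔ x ∈ sing G X := fun x => by rw [hSf]; simp
  have hΩS : Ωf ⊆ Sf := fun x hx => (hSmem x).mpr (h.orbit_subset_sing ((hΩmem x).mp hx))
  have hncard : Ωf.card = n := by rw [hn]; exact card_orbit_finset ω₀ Ωf hΩmem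
  obtain ⟨f, hf⟩ : ∃ f : X → ℕ, f = fun x => Nat.card (stabilizer G x) - 1 := ⟨_, rfl⟩
  -- the basic equation
  have hE : ∑ x ∈ Sf \ Ωf, f x + n * (s₀ - 1) + n * (q - 1) = 2 * (g - 1) := by
    have h1 := h.sum_rows
    have h2 := h.rows_par
    have h3 := h.npar Ωf hΩmem
    rw [h1, h3, ← hSf, hncard, ← hq] at h2
    have h4 := Finset.sum_sdiff (f := f) hΩS
    have h5 : ∑ x ∈ Ωf, f x = n * (s₀ - 1) := by
      rw [hf, hs₀, ← hncard]
      exact sum_orbit ω₀ Ωf hΩmem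
    rw [hf] at h4 h5
    rw [hf, ← h5, h4, h2, hg, Nat.card_eq_fintype_card]
  -- numerical facts
  have hns : n * s₀ = g := by rw [hn, hs₀, hg]; exact card_orbit_mul ω₀
  have hqs : q ∣ s₀ := by
    rw [hq, hs₀]; exact Subgroup.card_dvd_of_le h.le_stabilizer
  obtain ⟨c, hc⟩ := hqs
  have hcdvd : c ∣ q - 1 := by
    have := h.index_dvd
    rw [← hs₀, ← hq, hc, Nat.mul_div_cancel_left _ (by omega)] at this
    exact this
  have hpunct := h.card_punct
  rw [← hn] at hpunct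
  obtain ⟨r, hr⟩ := h.card_dvd_punct
  rw [← hq] at hr
  have hr1 : 1 ≤ r := by
    rcases Nat.eq_zero_or_pos r with h0 | h0
    · exfalso
      rw [h0, mul_zero] at hr
      obtain ⟨γ, hγ⟩ := h.moves
      haveI : IsEmpty ↥h.punct := by
        rw [← Finite.card_eq_zero_iff]  -- may need adjusting
        exact hr
      exact IsEmpty.false (⟨γ • ω₀, mem_orbit _ _, hγ⟩ : ↥h.punct)
    · exact h0
  have hn' : n = 1 + r * q := by rw [← hpunct, hr]; ring
  have hc1 : 1 ≤ c := by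
    rcases Nat.eq_zero_or_pos c with h0 | h0
    · exfalso
      rw [h0, mul_zero] at hc
      have : 0 < s₀ := by rw [hs₀]; exact Nat.card_pos
      omega
    · exact h0
  have hn2 : 2 ≤ n := by
    have : 1 * 3 ≤ r * q := Nat.mul_le_mul hr1 hq3
    omega
  have hs₀q : q ≤ s₀ := by rw [hc]; exact Nat.le_mul_of_pos_right q hc1
  obtain ⟨a, ha⟩ : ∃ a, a = n * s₀ := ⟨_, rfl⟩
  obtain ⟨b, hb⟩ : ∃ b, b = n * q := ⟨_, rfl⟩
  have hab : b ≤ a := by rw [ha, hb]; exact Nat.mul_le_mul_left n hs₀q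
  have hb3 : 3 * n ≤ b := by rw [hb, mul_comm]; exact Nat.mul_le_mul_left n hq3
  have e1 : n * (s₀ - 1) = a - n := by rw [ha, Nat.mul_sub_one]
  have e2 : n * (q - 1) = b - n := by rw [hb, Nat.mul_sub_one]
  rw [e1, e2, ← hns, ← ha] at hE
  -- every point of `T` contributes at least one
  have hfpos : ∀ x ∈ Sf \ Ωf, 1 ≤ f x := by
    intro x hx
    rw [Finset.mem_sdiff] at hx
    have := two_le_card_stabilizer (G := G) ((hSmem x).mp hx.1)
    rw [hf]
    show 1 ≤ Nat.card (stabilizer G x) - 1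
    omega
  -- `T` is nonempty
  have hTne : (Sf \ Ωf).Nonempty := by
    rw [Finset.nonempty_iff_ne_empty]
    intro hT
    rw [hT, Finset.sum_empty] at hE
    omega
  obtain ⟨x₀, hx₀⟩ := hTne
  have hx₀' := Finset.mem_sdiff.mp hx₀
  -- its orbit
  have hOfin : (orbit G x₀).Finite := Set.finite_range _
  obtain ⟨Of, hOf⟩ : ∃ Of : Finset X, Of = hOfin.toFinset := ⟨_, rfl⟩
  have hOmem : ∀ x, x ∈ Of ↔ x ∈ orbit G x₀ := fun x => by rw [hOf]; simp
  have hTinv : ∀ x ∈ Sf \ Ωf, ∀ k : G, k • x ∈ Sf \ Ωf := by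
    intro x hx k
    rw [Finset.mem_sdiff] at hx ⊢
    refine ⟨(hSmem _).mpr (sing_smul ((hSmem x).mp hx.1) k), fun h' => hx.2 ?_⟩
    rw [hΩmem] at h' ⊢
    obtain ⟨j, hj⟩ := h'
    refine ⟨k⁻¹ * j, ?_⟩
    show (k⁻¹ * j) • ω₀ = x
    have hj' : j • ω₀ = k • x := hj
    rw [mul_smul, hj', inv_smul_smul]
  have hOT : Of ⊆ Sf \ Ωf := by
    intro x hx
    obtain ⟨k, rfl⟩ := (hOmem x).mp hx
    exact hTinv x₀ hx₀ k
  obtain ⟨m, hm⟩ : ∃ m, m = Of.card := ⟨_, rfl⟩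
  obtain ⟨e, he⟩ : ∃ e, e = Nat.card (stabilizer G x₀) := ⟨_, rfl⟩
  have he2 : 2 ≤ e := by rw [he]; exact two_le_card_stabilizer ((hSmem x₀).mp hx₀'.1)
  have hme : m * e = a := by
    rw [hm, he, ha, hns, hg, card_orbit_finset x₀ Of hOmem]
    exact card_orbit_mul x₀
  have hsumO : ∑ x ∈ Of, f x = m * (e - 1) := by
    rw [hf, hm, he]
    exact sum_orbit x₀ Of hOmem
  have hsplit := Finset.sum_sdiff (f := f) hOT
  -- there is no further orbit
  have hTO : (Sf \ Ωf) \ Of = ∅ := by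
    by_contra hne
    obtain ⟨x₁, hx₁⟩ := Finset.nonempty_iff_ne_empty.mpr hne
    have hx₁' := Finset.mem_sdiff.mp hx₁
    have hx₁'' := Finset.mem_sdiff.mp hx₁'.1
    have hO₁fin : (orbit G x₁).Finite := Set.finite_range _
    obtain ⟨Of₁, hOf₁⟩ : ∃ Of₁ : Finset X, Of₁ = hO₁fin.toFinset := ⟨_, rfl⟩
    have hO₁mem : ∀ x, x ∈ Of₁ ↔ x ∈ orbit G x₁ := fun x => by rw [hOf₁]; simp
    have hO₁T : Of₁ ⊆ (Sf \ Ωf) \ Of := by
      intro x hx
      obtain ⟨k, rfl⟩ := (hO₁mem x).mp hx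
      rw [Finset.mem_sdiff]
      refine ⟨hTinv x₁ hx₁'.1 k, fun h' => hx₁'.2 ?_⟩
      rw [hOmem] at h' ⊢
      obtain ⟨j, hj⟩ := h'
      refine ⟨k⁻¹ * j, ?_⟩
      show (k⁻¹ * j) • x₀ = x₁
      have hj' : j • x₀ = k • x₁ := hj
      rw [mul_smul, hj', inv_smul_smul]
    obtain ⟨m₁, hm₁⟩ : ∃ m₁, m₁ = Of₁.card := ⟨_, rfl⟩
    obtain ⟨e₁, he₁⟩ : ∃ e₁, e₁ = Nat.card (stabilizer G x₁) := ⟨_, rfl⟩
    have he₁2 : 2 ≤ e₁ := by rw [he₁]; exact two_le_card_stabilizer ((hSmem x₁).mp hx₁''.1)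
    have hme₁ : m₁ * e₁ = a := by
      rw [hm₁, he₁, ha, hns, hg, card_orbit_finset x₁ Of₁ hO₁mem]
      exact card_orbit_mul x₁
    have hsumO₁ : ∑ x ∈ Of₁, f x = m₁ * (e₁ - 1) := by
      rw [hf, hm₁, he₁]
      exact sum_orbit x₁ Of₁ hO₁mem
    have hle : ∑ x ∈ Of₁, f x ≤ ∑ x ∈ (Sf \ Ωf) \ Of, f x :=
      Finset.sum_le_sum_of_subset hO₁T
    have k1 : m * (e - 1) = a - m := by rw [← hme, Nat.mul_sub_one]
    have k2 : m₁ * (e₁ - 1) = a - m₁ := by rw [← hme₁, Nat.mul_sub_one]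
    have k3 : 2 * m ≤ a := by rw [← hme, mul_comm]; exact Nat.mul_le_mul_left m he2
    have k4 : 2 * m₁ ≤ a := by rw [← hme₁, mul_comm]; exact Nat.mul_le_mul_left m₁ he₁2
    rw [hsumO₁, k2] at hle
    rw [hsumO, k1] at hsplit
    omega
  rw [hTO, Finset.sum_empty, zero_add, hsumO] at hsplit
  have k1 : m * (e - 1) = a - m := by rw [← hme, Nat.mul_sub_one]
  have k3 : 2 * m ≤ a := by rw [← hme, mul_comm]; exact Nat.mul_le_mul_left m he2
  rw [← hsplit, k1] at hE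
  have hmval : m = n * (q - 2) + 2 := by
    have : n * (q - 2) = b - 2 * n := by rw [hb, Nat.mul_sub, mul_comm n 2]
    rw [this]
    omega
  have hmdvd : m ∣ n * (q * c) := by
    rw [← hc, ← ha, ← hme]
    exact dvd_mul_right m e
  rcases arith hn' hr1 hq3 hcdvd hmval hmdvd with h1 | h1
  · right
    rw [hr, h1, mul_one, hq]
  · left
    rw [← hq, h1]

end FixHyp

end Cfsg.Agent.Lib.Helper11.Dickson
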