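import Mathlib

set_option autoImplicit false

namespace Cfsg.Agent.Lib.Helper11.Dickson

open Matrix Matrix.GeneralLinearGroup OnePoint MulAction
open scoped MatrixGroups

variable {K : Type*} [Field K] [DecidableEq K]

/-- scalar matrices act trivially -/
theorem smul_eq_self_of_scalar {g : GL (Fin 2) K} (hg : g.val ∈ Set.range (Matrix.scalar (Fin 2)))
    (x : OnePoint K) : g • x = x := by
  obtain ⟨μ, hμ⟩ := hg
  have h00 : g 0 0 = μ := by rw [← hμ]; simp
  have h01 : g 0 1 = 0 := by rw [← hμ]; simp
  have h10 : g 1 0 = 0 := by rw [← hμ]; simp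
  have h11 : g 1 1 = μ := by rw [← hμ]; simp
  have hμ0 : μ ≠ 0 := by
    intro h0
    have := g.det_ne_zero
    rw [Matrix.det_fin_two, h00, h01, h10, h11, h0] at this
    simp at this
  cases x with
  | infty => rw [smul_infty_eq_self_iff, h10]
  | coe t =>
    rw [smul_some_eq_ite, h10, h11, h00, h01]
    simp [hμ0]

/-- a parabolic element has exactly one fixed point -/
theorem ncard_fixedBy_of_isParabolic [NeZero (2 : K)] {g : GL (Fin 2) K} (hg : g.IsParabolic) :
    (fixedBy (OnePoint K) g).ncard = 1 := by
  rw [Set.ncard_eq_one]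
  refine ⟨parabolicFixedPoint g, ?_⟩
  ext x
  rw [mem_fixedBy, hg.smul_eq_self_iff, Set.mem_singleton_iff]

/-- a non-scalar element with nonzero discriminant has exactly two fixed points (over an
algebraically closed field) -/
theorem ncard_fixedBy_of_discr_ne_zero [IsAlgClosed K] [NeZero (2 : K)] {g : GL (Fin 2) K}
    (hd : g.val.discr ≠ 0) : (fixedBy (OnePoint K) g).ncard = 2 := by
  obtain ⟨s, hs⟩ := IsAlgClosed.exists_eq_mul_self g.val.discr
  have hs0 : s ≠ 0 := by
    rintro rfl
    rw [mul_zero] at hs
    exact hd hs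
  have h2 : (2 : K) ≠ 0 := NeZero.ne 2
  have hdisc : g.val.discr = (g 0 0 - g 1 1) ^ 2 + 4 * g 0 1 * g 1 0 := by
    rw [discr_fin_two, trace_fin_two, det_fin_two]; ring
  have hdet : g 0 0 * g 1 1 - g 0 1 * g 1 0 ≠ 0 := by
    have := g.det_ne_zero
    rwa [det_fin_two] at this
  by_cases hc : g 1 0 = 0
  · -- upper triangular
    have hdd : g 0 0 ≠ g 1 1 := by
      intro h
      apply hd
      rw [hdisc, hc, h]; ring
    have hd0 : g 1 1 ≠ 0 := by
      intro h
      apply hdet
      rw [hc, h]; ring
    have : fixedBy (OnePoint K) g = {∞, ((g 0 1 / (g 1 1 - g 0 0) : K) : OnePoint K)} := by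
      ext x
      rw [mem_fixedBy]
      cases x with
      | infty => simp [smul_infty_eq_self_iff, hc]
      | coe t =>
        rw [smul_some_eq_ite, hc]
        simp only [zero_mul, zero_add, hd0, if_false, coe_eq_coe, Set.mem_insert_iff,
          Set.mem_singleton_iff, coe_ne_infty, false_or]
        have hne : g 1 1 - g 0 0 ≠ 0 := sub_ne_zero.mpr (Ne.symm hdd)
        rw [div_eq_iff hd0, eq_div_iff hne]
        constructor
        · intro h; linear_combination -h
        · intro h; linear_combination -h
    rw [this, Set.ncard_pair (by simp)]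
  · -- two finite fixed points
    have hdiscrim : discrim (g 1 0) (g 1 1 - g 0 0) (-g 0 1) = s * s := by
      rw [← hs, hdisc, discrim]; ring
    have : fixedBy (OnePoint K) g =
        {((((-(g 1 1 - g 0 0) + s) / (2 * g 1 0) : K)) : OnePoint K),
          ((((-(g 1 1 - g 0 0) - s) / (2 * g 1 0) : K)) : OnePoint K)} := by
      ext x
      rw [mem_fixedBy]
      cases x with
      | infty => simp [smul_infty_eq_self_iff, hc]
      | coe t =>
        rw [← fixpointPolynomial_aeval_eq_zero_iff]
        simp only [fixpointPolynomial, map_sub, map_mul, map_add, Polynomial.aeval_X_pow,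
          Polynomial.aeval_C, Polynomial.aeval_X, Algebra.algebraMap_self_apply,
          Set.mem_insert_iff, Set.mem_singleton_iff, coe_eq_coe]
        rw [← quadratic_eq_zero_iff hc hdiscrim t]
        constructor
        · intro h; linear_combination h
        · intro h; linear_combination h
    rw [this, Set.ncard_pair]
    rw [Ne, coe_eq_coe, div_left_inj' (mul_ne_zero h2 hc)]
    intro h
    apply hs0
    have : 2 * s = 0 := by linear_combination h
    rcases mul_eq_zero.mp this with h' | h'
    · exact absurd h' h2
    · exact h'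

end Cfsg.Agent.Lib.Helper11.Dickson
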