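import Mathlib
import Cfsg.Agent.Lib.Helper11.Dickson.MobiusA

set_option autoImplicit false
set_option linter.unusedSectionVars false

namespace Cfsg.Agent.Lib.Helper11.Dickson

open Matrix Matrix.GeneralLinearGroup OnePoint MulAction
open scoped MatrixGroups

variable {K : Type*} [Field K] [DecidableEq K]

/-- lower unitriangular matrices -/
def tL (s : K) : GL (Fin 2) K :=
  ⟨!![1, 0; s, 1], !![1, 0; -s, 1], by simp [one_fin_two], by simp [one_fin_two]⟩

@[simp] theorem tL_val (s : K) : (tL s).val = !![1, 0; s, 1] := rfl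

theorem upper_smul_coe (t x : K) : upperRightHom t • (x : OnePoint K) = ((x + t : K) : OnePoint K) := by
  rw [smul_some_eq_ite]
  simp [upperRightHom]

theorem upper_smul_infty (t : K) : upperRightHom t • (∞ : OnePoint K) = ∞ := by
  rw [smul_infty_eq_self_iff]
  simp [upperRightHom]

theorem eq_infty_of_upper_smul {t : K} (ht : t ≠ 0) {x : OnePoint K}
    (hx : upperRightHom t • x = x) : x = ∞ := by
  cases x with
  | infty => rfl
  | coe y =>
    exfalso
    rw [upper_smul_coe, coe_eq_coe] at hx
    apply ht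
    linear_combination hx

theorem tL_smul_zero (s : K) : tL s • ((0 : K) : OnePoint K) = ((0 : K) : OnePoint K) := by
  rw [smul_some_eq_ite]
  simp [tL]

theorem tL_one_smul_infty : tL (1 : K) • (∞ : OnePoint K) = ((1 : K) : OnePoint K) := by
  rw [smul_infty_eq_ite]
  simp [tL]

theorem upper_ne_scalar {t : K} (ht : t ≠ 0) :
    (upperRightHom t : GL (Fin 2) K).val ∉ Set.range (Matrix.scalar (Fin 2)) := by
  rintro ⟨μ, hμ⟩
  have := congrFun (congrFun hμ 0) 1
  simp [upperRightHom] at this
  exact ht this.symm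

theorem tL_ne_scalar {s : K} (hs : s ≠ 0) :
    (tL s).val ∉ Set.range (Matrix.scalar (Fin 2)) := by
  rintro ⟨μ, hμ⟩
  have := congrFun (congrFun hμ 1) 0
  simp [tL] at this
  exact hs this.symm

theorem upper_isParabolic {t : K} (ht : t ≠ 0) : (upperRightHom t : GL (Fin 2) K).IsParabolic := by
  refine ⟨upper_ne_scalar ht, ?_⟩
  rw [discr_fin_two, trace_fin_two, det_fin_two]
  simp [upperRightHom]
  ring

theorem tL_isParabolic {s : K} (hs : s ≠ 0) : (tL s).IsParabolic := by
  refine ⟨tL_ne_scalar hs, ?_⟩
  rw [discr_fin_two, trace_fin_two, det_fin_two]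
  simp [tL]
  ring

variable {p : ℕ} [Fact p.Prime] [CharP K p]

/-- a `p`-element of determinant one has trace two -/
theorem trace_eq_two_of_pow {g : GL (Fin 2) K} {k : ℕ} (hg : g ^ (p ^ k) = 1) :
    g.val.trace = 2 := by
  have h1 : g.val ^ (p ^ k) = 1 := by
    have := congrArg Units.val hg
    simpa using this
  have h2 : (g.val - 1) ^ (p ^ k) = 0 := by
    rw [sub_pow_char_pow_of_commute p k (Commute.one_right _), h1, one_pow, sub_self]
  have h3 : IsNilpotent (g.val - 1) := ⟨_, h2⟩
  have h4 := (Matrix.isNilpotent_trace_of_isNilpotent h3).eq_zero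
  rw [trace_sub, trace_one, sub_eq_zero] at h4
  rw [h4]
  simp

/-- a nonidentity `p`-element of determinant one is parabolic -/
theorem isParabolic_of_pow {g : GL (Fin 2) K} {k : ℕ} (hg : g ^ (p ^ k) = 1) (hg1 : g ≠ 1)
    (hdet : g.val.det = 1) (h2 : (2 : K) ≠ 0) : g.IsParabolic := by
  have htr := trace_eq_two_of_pow hg
  refine ⟨?_, ?_⟩
  · rintro ⟨μ, hμ⟩
    apply hg1
    have h1 : g.val.trace = 2 * μ := by rw [← hμ, trace_fin_two]; simp; ring
    have hμ1 : μ = 1 := by
      have : 2 * (μ - 1) = 0 := by rw [mul_sub, ← h1, htr]; ring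
      rcases mul_eq_zero.mp this with h | h
      · exact absurd h h2
      · linear_combination h
    apply Units.ext
    rw [← hμ, hμ1]
    simp
  · rw [discr_fin_two, htr, hdet]; ring

/-- an upper triangular `p`-element of determinant one is unitriangular -/
theorem eq_upper_of_pow {g : GL (Fin 2) K} {k : ℕ} (hg : g ^ (p ^ k) = 1)
    (hdet : g.val.det = 1) (h10 : g 1 0 = 0) : g = upperRightHom (g 0 1) := by
  have htr := trace_eq_two_of_pow hg
  rw [trace_fin_two] at htr
  rw [det_fin_two, h10, mul_zero, sub_zero] at hdet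
  have h00 : g 0 0 = 1 := by
    have : (g 0 0 - 1) ^ 2 = 0 := by
      have e : g 1 1 = 2 - g 0 0 := by linear_combination htr
      rw [e] at hdet
      linear_combination -hdet
    have := pow_eq_zero_iff (two_ne_zero) |>.mp this
    linear_combination this
  have h11 : g 1 1 = 1 := by rw [h00] at htr; linear_combination htr
  apply Units.ext
  ext i j
  fin_cases i <;> fin_cases j <;> simp [upperRightHom, h00, h11, h10]

end Cfsg.Agent.Lib.Helper11.Dickson
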