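import Mathlib
import Cfsg.Agent.Lib.Helper11.Dickson.MobiusB

set_option autoImplicit false
set_option linter.unusedSectionVars false
set_option linter.style.haveILetI false

namespace Cfsg.Agent.Lib.Helper11.Dickson

open Matrix Matrix.GeneralLinearGroup OnePoint MulAction
open scoped MatrixGroups

variable {K : Type*} [Field K] [DecidableEq K] {p : ℕ} [Fact p.Prime] [CharP K p]

/-- a `p`-subgroup containing a nontrivial translation fixes `∞` -/
theorem smul_infty_of_pgroup (h2 : (2 : K) ≠ 0) (Q : Subgroup (GL (Fin 2) K)) [Finite Q]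
    (hQ : IsPGroup p Q) (hdet : ∀ g ∈ Q, g.val.det = 1) {l : K} (hl : l ≠ 0)
    (ha : upperRightHom l ∈ Q) : ∀ s ∈ Q, s • (∞ : OnePoint K) = ∞ := by
  haveI : NeZero (2 : K) := ⟨h2⟩
  have hnt : Nontrivial ↥Q := by
    refine ⟨⟨⟨upperRightHom l, ha⟩, 1, ?_⟩⟩
    intro h
    have h1 : (upperRightHom l : GL (Fin 2) K) = 1 := congrArg Subtype.val h
    have h3 := upper_ne_scalar hl
    apply h3
    rw [h1]
    exact ⟨1, by simp⟩
  have := hQ.center_nontrivial
  obtain ⟨z, hz1⟩ := exists_ne (1 : Subgroup.center ↥Q)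
  obtain ⟨c, hc⟩ : ∃ c : GL (Fin 2) K, c = ((z : ↥Q) : GL (Fin 2) K) := ⟨_, rfl⟩
  have hcQ : c ∈ Q := by rw [hc]; exact (z : ↥Q).2
  have hc1 : c ≠ 1 := by
    intro h
    apply hz1
    apply Subtype.ext
    apply Subtype.ext
    rw [← hc, h]
    rfl
  have hcomm : ∀ s ∈ Q, s * c = c * s := by
    intro s hs
    have h3 := Subgroup.mem_center_iff.mp z.2 ⟨s, hs⟩
    have h4 := congrArg Subtype.val h3
    simp only [Subgroup.coe_mul] at h4
    rw [hc]
    exact h4
  obtain ⟨k, hk⟩ := hQ (z : ↥Q)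
  have hck : c ^ (p ^ k) = 1 := by
    have := congrArg Subtype.val hk
    rw [hc]
    simpa using this
  have hpar := isParabolic_of_pow hck hc1 (hdet c hcQ) h2
  have hfix : ∀ x : OnePoint K, c • x = x ↔ x = parabolicFixedPoint c :=
    fun x => hpar.smul_eq_self_iff
  -- the fixed point is `∞`
  have hpf : parabolicFixedPoint c = ∞ := by
    apply eq_infty_of_upper_smul hl
    rw [← hfix]
    rw [← mul_smul, ← hcomm _ ha, mul_smul, (hfix _).mpr rfl]
  intro s hs
  rw [← hpf, ← hfix, ← mul_smul, ← hcomm s hs, mul_smul, (hfix _).mpr rfl]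

end Cfsg.Agent.Lib.Helper11.Dickson
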