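import Mathlib
import Cfsg.Agent.Lib.Helper11.Dickson.MobiusC
import Cfsg.Agent.Lib.Helper11.Dickson.FixCountF

set_option autoImplicit false
set_option linter.unusedSectionVars false
set_option linter.style.haveILetI false

namespace Cfsg.Agent.Lib.Helper11.Dickson

open Matrix Matrix.GeneralLinearGroup OnePoint MulAction
open scoped MatrixGroups

variable {K : Type*} [Field K] [DecidableEq K]

/-- the permutation representation on the projective line -/
def toP : GL (Fin 2) K →* Equiv.Perm (OnePoint K) := MulAction.toPermHom _ _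

theorem toP_apply (g : GL (Fin 2) K) (x : OnePoint K) : toP g x = g • x := rfl

variable (L : Subgroup (GL (Fin 2) K))

/-- the image of `L` in the permutation group of the projective line -/
def Gp : Subgroup (Equiv.Perm (OnePoint K)) := L.map toP

/-- the upper unitriangular elements of `L` -/
def UL : Subgroup (GL (Fin 2) K) := L ⊓ (upperRightHom (R := K)).toMonoidHom.range

/-- the image of the unitriangular elements -/
def PL : Subgroup ↥(Gp L) := ((UL L).map toP).subgroupOf (Gp L)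

variable {L}

theorem mem_UL {g : GL (Fin 2) K} : g ∈ UL L ↔ g ∈ L ∧ ∃ t : K, g = upperRightHom t := by
  unfold UL
  rw [Subgroup.mem_inf, MonoidHom.mem_range]
  constructor
  · rintro ⟨h1, t, ht⟩
    exact ⟨h1, Multiplicative.toAdd t, ht.symm⟩
  · rintro ⟨h1, t, ht⟩
    exact ⟨h1, Multiplicative.ofAdd t, ht.symm⟩

theorem Gp_smul (γ : ↥(Gp L)) (x : OnePoint K) : γ • x = (γ : Equiv.Perm (OnePoint K)) x := rfl

theorem exists_lift (γ : ↥(Gp L)) : ∃ g ∈ L, ∀ x : OnePoint K, γ • x = g • x := by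
  obtain ⟨g, hg, hgγ⟩ := γ.2
  refine ⟨g, hg, fun x => ?_⟩
  rw [Gp_smul, ← hgγ, toP_apply]

/-- the element of `Gp L` defined by `g ∈ L` -/
def mkG {g : GL (Fin 2) K} (hg : g ∈ L) : ↥(Gp L) := ⟨toP g, g, hg, rfl⟩

theorem mkG_smul {g : GL (Fin 2) K} (hg : g ∈ L) (x : OnePoint K) : mkG hg • x = g • x := rfl

theorem eq_one_iff (γ : ↥(Gp L)) : γ = 1 ↔ ∀ x : OnePoint K, γ • x = x := by
  constructor
  · rintro rfl x
    exact one_smul _ x
  · intro h
    apply Subtype.ext
    apply Equiv.ext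
    intro x
    exact h x

theorem eq_of_smul {γ δ : ↥(Gp L)} (h : ∀ x : OnePoint K, γ • x = δ • x) : γ = δ := by
  apply Subtype.ext
  apply Equiv.ext
  intro x
  exact h x

theorem fixedBy_eq {γ : ↥(Gp L)} {g : GL (Fin 2) K} (h : ∀ x : OnePoint K, γ • x = g • x) :
    fixedBy (OnePoint K) γ = fixedBy (OnePoint K) g := by
  ext x
  rw [mem_fixedBy, mem_fixedBy, h]

theorem mem_PL {γ : ↥(Gp L)} : γ ∈ PL L ↔ ∃ t : K, upperRightHom t ∈ L ∧
    ∀ x : OnePoint K, γ • x = upperRightHom t • x := by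
  unfold PL
  rw [Subgroup.mem_subgroupOf, Subgroup.mem_map]
  constructor
  · rintro ⟨u, hu, huγ⟩
    obtain ⟨huL, t, rfl⟩ := mem_UL.mp hu
    refine ⟨t, huL, fun x => ?_⟩
    rw [Gp_smul, ← huγ, toP_apply]
  · rintro ⟨t, ht, h⟩
    refine ⟨upperRightHom t, mem_UL.mpr ⟨ht, t, rfl⟩, ?_⟩
    apply Equiv.ext
    intro x
    rw [toP_apply, ← h, Gp_smul]

end Cfsg.Agent.Lib.Helper11.Dickson
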