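import Mathlib
import Cfsg.Agent.Lib.Helper11.Dickson.MainA

set_option autoImplicit false
set_option linter.unusedSectionVars false
set_option linter.style.haveILetI false

namespace Cfsg.Agent.Lib.Helper11.Dickson

open Matrix Matrix.GeneralLinearGroup OnePoint MulAction
open scoped MatrixGroups

variable {K : Type*} [Field K] [DecidableEq K] {p : ℕ} [Fact p.Prime] [CharP K p]
variable {L : Subgroup (GL (Fin 2) K)}

theorem not_scalar_of_ne_one {γ : ↥(Gp L)} (hγ : γ ≠ 1) {g : GL (Fin 2) K}
    (h : ∀ x : OnePoint K, γ • x = g • x) : g.val ∉ Set.range (Matrix.scalar (Fin 2)) := by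
  intro hs
  apply hγ
  rw [eq_one_iff]
  intro x
  rw [h, smul_eq_self_of_scalar hs]

theorem upper_pow_p (t : K) : (upperRightHom t : GL (Fin 2) K) ^ p = 1 := by
  rw [← AddChar.map_nsmul_eq_pow, nsmul_eq_mul, CharP.cast_eq_zero, zero_mul,
    AddChar.map_zero_eq_one]

/-- a parabolic element of determinant one: its square is a nonidentity element of order `p` -/
theorem sq_of_isParabolic (h2 : (2 : K) ≠ 0) {g : GL (Fin 2) K} (hg : g.IsParabolic)
    (hdet : g.val.det = 1) : (g * g) ^ p = 1 ∧ g * g ≠ 1 := by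
  haveI : NeZero (2 : K) := ⟨h2⟩
  have hp : 2 ≤ p := (Fact.out : p.Prime).two_le
  obtain ⟨ε, hε⟩ : ∃ ε : K, ε = g.val.trace / 2 := ⟨_, rfl⟩
  have htr : g.val.trace = 2 * ε := by rw [hε]; field_simp
  have hε2 : ε * ε = 1 := by
    have h1 := hg.2
    rw [discr_fin_two, hdet, htr] at h1
    have : 4 * (ε * ε - 1) = 0 := by linear_combination h1
    have h4 : (4 : K) ≠ 0 := by
      have : (4 : K) = 2 * 2 := by norm_num
      rw [this]; exact mul_ne_zero h2 h2
    rcases mul_eq_zero.mp this with h | h
    · exact absurd h h4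
    · linear_combination h
  obtain ⟨N, hN⟩ : ∃ N : Matrix (Fin 2) (Fin 2) K, N = g.val - Matrix.scalar (Fin 2) ε := ⟨_, rfl⟩
  have hNsq : N * N = 0 := by
    have := hg.sub_eigenvalue_sq_eq_zero
    rw [parabolicEigenvalue, ← hε, ← hN, sq] at this
    exact this
  have hgN : g.val = Matrix.scalar (Fin 2) ε + N := by rw [hN]; abel
  have hcomm : Commute (Matrix.scalar (Fin 2) ε) N := Matrix.scalar_commute ε (fun r' => mul_comm _ _) N
  have hgg : g.val * g.val = 1 + (2 * ε) • N := by
    rw [hgN, mul_add, add_mul, add_mul, hNsq, add_zero, ← hcomm.eq, ← map_mul, hε2, map_one]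
    rw [two_mul, add_smul, add_assoc]
    congr 1
    have : Matrix.scalar (Fin 2) ε * N = ε • N := by
      ext i j; simp [Matrix.scalar, Matrix.diagonal_mul]
    rw [this]
  have hM : ((2 * ε) • N) ^ p = 0 := by
    obtain ⟨j, rfl⟩ : ∃ j, p = j + 2 := ⟨p - 2, by omega⟩
    rw [pow_add, sq, smul_mul_smul_comm, hNsq, smul_zero, mul_zero]
  constructor
  · apply Units.ext
    rw [Units.val_pow_eq_pow_val, Units.val_mul, hgg, Units.val_one,
      add_pow_char_of_commute _ (Commute.one_left _), one_pow, hM, add_zero]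
  · intro h
    have h1 : g.val * g.val = 1 := by
      have := congrArg Units.val h
      simpa using this
    rw [hgg] at h1
    have h3 : (2 * ε) • N = 0 := by
      have : 1 + (2 * ε) • N = 1 + 0 := by rw [h1, add_zero]
      exact add_left_cancel this
    have hε0 : 2 * ε ≠ 0 := by
      apply mul_ne_zero h2
      intro h0
      rw [h0, mul_zero] at hε2
      exact zero_ne_one hε2
    have hN0 : N = 0 := by
      rcases smul_eq_zero.mp h3 with h' | h'
      · exact absurd h' hε0
      · exact h'
    apply hg.1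
    rw [hgN, hN0, add_zero]
    exact ⟨ε, rfl⟩

end Cfsg.Agent.Lib.Helper11.Dickson
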