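import Mathlib
import Cfsg.Agent.Lib.Helper11.Dickson.MainB

set_option autoImplicit false
set_option linter.unusedSectionVars false
set_option linter.style.haveILetI false

namespace Cfsg.Agent.Lib.Helper11.Dickson

open Matrix Matrix.GeneralLinearGroup OnePoint MulAction
open scoped MatrixGroups

variable {K : Type*} [Field K] [DecidableEq K]
variable {L : Subgroup (GL (Fin 2) K)}

/-- the fixed point of a parabolic element of `L` lies in the `L`-orbit of `∞` -/
theorem exists_smul_infty_eq (p : ℕ) [Fact p.Prime] [CharP K p] (h2 : (2 : K) ≠ 0) [Finite L] (hdet : ∀ g ∈ L, g.val.det = 1)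
    {l : K} (hl : l ≠ 0) (hU : upperRightHom l ∈ L) {g : GL (Fin 2) K} (hgL : g ∈ L)
    (hg : g.IsParabolic) {x : OnePoint K} (hx : g • x = x) : ∃ h ∈ L, h • (∞ : OnePoint K) = x := by
  haveI : NeZero (2 : K) := ⟨h2⟩
  obtain ⟨hup, hu1⟩ := sq_of_isParabolic (p := p) h2 hg (hdet g hgL)
  obtain ⟨u, hu⟩ : ∃ u, u = g * g := ⟨_, rfl⟩
  rw [← hu] at hup hu1
  have huL : u ∈ L := by rw [hu]; exact L.mul_mem hgL hgL
  have hux : u • x = x := by rw [hu, mul_smul, hx, hx]
  have hupar : u.IsParabolic := by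
    apply isParabolic_of_pow (k := 1) (by rw [pow_one]; exact hup) hu1 (hdet u huL) h2
  -- Sylow subgroups of `L`
  have hA : IsPGroup p (Subgroup.zpowers (⟨upperRightHom l, hU⟩ : ↥L)) := by
    apply IsPGroup.of_card (n := if (⟨upperRightHom l, hU⟩ : ↥L) = 1 then 0 else 1)
    rw [Nat.card_zpowers]
    split_ifs with h1
    · rw [h1, orderOf_one, pow_zero]
    · rw [pow_one]
      apply orderOf_eq_prime
      · apply Subtype.ext
        rw [Subgroup.coe_pow]
        exact upper_pow_p l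
      · exact h1
  have hB : IsPGroup p (Subgroup.zpowers (⟨u, huL⟩ : ↥L)) := by
    apply IsPGroup.of_card (n := 1)
    rw [Nat.card_zpowers, pow_one]
    apply orderOf_eq_prime
    · apply Subtype.ext
      rw [Subgroup.coe_pow]
      exact hup
    · intro h1
      exact hu1 (congrArg Subtype.val h1)
  obtain ⟨S₀, hS₀⟩ := hA.exists_le_sylow
  obtain ⟨S₁, hS₁⟩ := hB.exists_le_sylow
  obtain ⟨h, hh⟩ := MulAction.exists_smul_eq ↥L S₀ S₁
  -- `S₀` fixes `∞`
  have hfix : ∀ s ∈ (S₀ : Subgroup ↥L).map L.subtype, s • (∞ : OnePoint K) = ∞ := by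
    haveI : Finite ↥((S₀ : Subgroup ↥L).map L.subtype) := by
      apply Finite.of_injective (fun s : ↥((S₀ : Subgroup ↥L).map L.subtype) =>
        (⟨s.1, by obtain ⟨t, _, ht⟩ := s.2; rw [← ht]; exact t.2⟩ : ↥L))
      intro s t hst
      apply Subtype.ext
      have := congrArg Subtype.val hst
      exact this
    apply smul_infty_of_pgroup (p := p) h2 _ (S₀.2.map _)
    · rintro _ ⟨t, _, rfl⟩
      exact hdet _ t.2
    · exact hl
    · exact ⟨⟨upperRightHom l, hU⟩, hS₀ (Subgroup.mem_zpowers _), rfl⟩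
  -- `u` lies in the conjugate
  have hu' : (⟨u, huL⟩ : ↥L) ∈ (S₁ : Subgroup ↥L) := hS₁ (Subgroup.mem_zpowers _)
  rw [← hh, Sylow.coe_subgroup_smul, Subgroup.mem_smul_pointwise_iff_exists] at hu'
  obtain ⟨s, hs, hsu⟩ := hu'
  rw [MulAut.smul_def, MulAut.conj_apply] at hsu
  have hsu' : (h : GL (Fin 2) K) * (s : GL (Fin 2) K) * (h : GL (Fin 2) K)⁻¹ = u := by
    have := congrArg Subtype.val hsu
    simpa using this
  have hsinf : (s : GL (Fin 2) K) • (∞ : OnePoint K) = ∞ := hfix _ ⟨s, hs, rfl⟩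
  refine ⟨h, h.2, ?_⟩
  have h3 : u • ((h : GL (Fin 2) K) • (∞ : OnePoint K)) = (h : GL (Fin 2) K) • (∞ : OnePoint K) := by
    rw [← hsu', mul_smul, mul_smul, inv_smul_smul, hsinf]
  have h4 := (hupar.smul_eq_self_iff).mp h3
  have h5 := (hupar.smul_eq_self_iff).mp hux
  rw [h4, h5]

end Cfsg.Agent.Lib.Helper11.Dickson
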