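import Mathlib
import Cfsg.Agent.Lib.Helper11.Dickson.MainC

set_option autoImplicit false
set_option linter.unusedSectionVars false
set_option linter.style.haveILetI false

namespace Cfsg.Agent.Lib.Helper11.Dickson

open Matrix Matrix.GeneralLinearGroup OnePoint MulAction
open scoped MatrixGroups

variable {K : Type*} [Field K] [DecidableEq K]
variable {L : Subgroup (GL (Fin 2) K)}

/-- an element `-[[1,t],[0,1]]` of `L` gives `[[1,t],[0,1]] ∈ L` -/
theorem upper_mem_of_neg (p : ℕ) [Fact p.Prime] [CharP K p] (hp2 : p ≠ 2) {g : GL (Fin 2) K}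
    (hgL : g ∈ L) (h00 : g 0 0 = -1) (h10 : g 1 0 = 0) (h11 : g 1 1 = -1) :
    upperRightHom (-(g 0 1)) ∈ L ∧ ∀ x : OnePoint K, g • x = upperRightHom (-(g 0 1)) • x := by
  constructor
  · have hgg : g * g = upperRightHom (2 * (-(g 0 1))) := by
      apply Units.ext
      ext i j
      fin_cases i <;> fin_cases j <;>
        simp [upperRightHom, Matrix.mul_apply, Fin.sum_univ_two, h00, h10, h11] <;> ring
    have hodd : p % 2 = 1 := by
      rcases (Fact.out : p.Prime).eq_two_or_odd with h | h
      · exact absurd h hp2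
      · exact h
    have h1 : (g * g) ^ ((p + 1) / 2) = upperRightHom (-(g 0 1)) := by
      rw [hgg, ← AddChar.map_nsmul_eq_pow]
      congr 1
      rw [nsmul_eq_mul, ← mul_assoc]
      have : (((p + 1) / 2 : ℕ) : K) * 2 = 1 := by
        have h3 : (p + 1) / 2 * 2 = p + 1 := by omega
        have : ((((p + 1) / 2 * 2 : ℕ)) : K) = ((p + 1 : ℕ) : K) := by rw [h3]
        rw [Nat.cast_mul, Nat.cast_add, CharP.cast_eq_zero K p, zero_add] at this
        simpa using this
      rw [this, one_mul]
    rw [← h1]
    exact L.pow_mem (L.mul_mem hgL hgL) _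
  · intro x
    cases x with
    | infty =>
      rw [upper_smul_infty, smul_infty_eq_self_iff, h10]
    | coe y =>
      rw [upper_smul_coe, smul_some_eq_ite, h10, h11, h00]
      simp
      ring

theorem Gp_finite [Finite L] : Finite ↥(Gp L) := by
  apply Finite.of_surjective (fun g : ↥L => (mkG g.2 : ↥(Gp L)))
  rintro ⟨γ, g, hg, rfl⟩
  exact ⟨⟨g, hg⟩, rfl⟩

/-- the fixed point hypotheses hold for the image of `L` -/
theorem fixHyp [IsAlgClosed K] (p : ℕ) [Fact p.Prime] [CharP K p] (hp2 : p ≠ 2) [Finite L]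
    (hdet : ∀ g ∈ L, g.val.det = 1) {l : K} (hl : l ≠ 0) (hU : upperRightHom l ∈ L)
    (hL1 : tL 1 ∈ L) : FixHyp ↥(Gp L) (OnePoint K) ∞ (PL L) := by
  have h2 : (2 : K) ≠ 0 := by
    intro h
    have h3 : ((2 : ℕ) : K) = 0 := by exact_mod_cast h
    rw [CharP.cast_eq_zero_iff K p] at h3
    have := (Nat.prime_dvd_prime_iff_eq Fact.out Nat.prime_two).mp h3
    exact hp2 this
  haveI : NeZero (2 : K) := ⟨h2⟩
  haveI : Finite ↥(Gp L) := Gp_finite
  have hpar_iff : ∀ (γ : ↥(Gp L)) (g : GL (Fin 2) K), g ∈ L → (∀ x : OnePoint K, γ • x = g • x) →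
      γ ≠ 1 → ((fixedBy (OnePoint K) γ).ncard = 1 ↔ g.val.discr = 0) := by
    intro γ g hgL hg hγ
    rw [fixedBy_eq hg]
    have hns := not_scalar_of_ne_one hγ hg
    constructor
    · intro h1
      by_contra hd
      rw [ncard_fixedBy_of_discr_ne_zero hd] at h1
      omega
    · intro hd
      exact ncard_fixedBy_of_isParabolic ⟨hns, hd⟩
  refine ⟨?_, ?_, ?_, ?_, ?_, ?_⟩
  · -- fix12
    intro γ hγ
    obtain ⟨g, hgL, hg⟩ := exists_lift γ
    rw [fixedBy_eq hg]
    have hns := not_scalar_of_ne_one hγ hg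
    by_cases hd : g.val.discr = 0
    · left; exact ncard_fixedBy_of_isParabolic ⟨hns, hd⟩
    · right; exact ncard_fixedBy_of_discr_ne_zero hd
  · -- memP
    intro γ
    constructor
    · intro hγ
      obtain ⟨t, htL, ht⟩ := mem_PL.mp hγ
      by_cases ht0 : t = 0
      · left
        rw [eq_one_iff]
        intro x
        rw [ht, ht0, AddChar.map_zero_eq_one, one_smul]
      · right
        refine ⟨?_, ?_⟩
        · rw [fixedBy_eq ht]
          exact ncard_fixedBy_of_isParabolic (upper_isParabolic ht0)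
        · rw [ht, upper_smul_infty]
    · rintro (rfl | ⟨h1, h3⟩)
      · exact Subgroup.one_mem _
      · by_cases hγ : γ = 1
        · rw [hγ]; exact Subgroup.one_mem _
        obtain ⟨g, hgL, hg⟩ := exists_lift γ
        have hd := (hpar_iff γ g hgL hg hγ).mp h1
        have h10 : g 1 0 = 0 := by
          rw [hg] at h3
          exact smul_infty_eq_self_iff.mp h3
        have hdet1 := hdet g hgL
        rw [det_fin_two, h10, mul_zero, sub_zero] at hdet1
        rw [discr_fin_two, trace_fin_two, det_fin_two, h10, mul_zero, sub_zero] at hd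
        have heq : g 0 0 = g 1 1 := by
          have : (g 0 0 - g 1 1) ^ 2 = 0 := by linear_combination hd
          have := pow_eq_zero_iff two_ne_zero |>.mp this
          linear_combination this
        have hsq : (g 0 0 - 1) * (g 0 0 + 1) = 0 := by
          rw [← heq] at hdet1
          linear_combination hdet1
        rcases mul_eq_zero.mp hsq with h00 | h00
        · have h00' : g 0 0 = 1 := by linear_combination h00
          have h11' : g 1 1 = 1 := by rw [← heq, h00']
          have hgu : g = upperRightHom (g 0 1) := by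
            apply Units.ext
            ext i j
            fin_cases i <;> fin_cases j <;> simp [upperRightHom, h00', h11', h10]
          rw [mem_PL]
          refine ⟨g 0 1, hgu ▸ hgL, fun x => ?_⟩
          rw [hg, ← hgu]
        · have h00' : g 0 0 = -1 := by linear_combination h00
          have h11' : g 1 1 = -1 := by rw [← heq, h00']
          obtain ⟨hu, hux⟩ := upper_mem_of_neg p hp2 hgL h00' h10 h11'
          rw [mem_PL]
          exact ⟨_, hu, fun x => by rw [hg, hux]⟩
  · -- comm
    intro a ha b hb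
    obtain ⟨s, -, hs⟩ := mem_PL.mp ha
    obtain ⟨t, -, ht⟩ := mem_PL.mp hb
    apply eq_of_smul
    intro x
    rw [mul_smul, mul_smul, ht, hs, hs, ht, ← mul_smul, ← mul_smul, ← AddChar.map_add_eq_mul,
      ← AddChar.map_add_eq_mul, add_comm]
  · -- parOrb
    intro γ hγ h1 x hx
    obtain ⟨g, hgL, hg⟩ := exists_lift γ
    have hd := (hpar_iff γ g hgL hg hγ).mp h1
    have hns := not_scalar_of_ne_one hγ hg
    rw [hg] at hx
    obtain ⟨h, hhL, hh⟩ := exists_smul_infty_eq p h2 hdet hl hU hgL ⟨hns, hd⟩ hx
    exact ⟨mkG hhL, by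
      show mkG hhL • (∞ : OnePoint K) = x
      rw [mkG_smul, hh]⟩
  · -- moves
    refine ⟨mkG hL1, ?_⟩
    rw [mkG_smul, tL_one_smul_infty]
    exact coe_ne_infty _
  · -- card3
    have hPp : IsPGroup p ↥(PL L) := by
      intro γ
      refine ⟨1, ?_⟩
      obtain ⟨t, -, ht⟩ := mem_PL.mp γ.2
      apply Subtype.ext
      rw [Subgroup.coe_pow, Subgroup.coe_one, pow_one, eq_one_iff]
      have hpow : ∀ (n : ℕ) (x : OnePoint K), ((γ : ↥(Gp L)) ^ n) • x = (upperRightHom t) ^ n • x := by
        intro n
        induction n with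
        | zero => intro x; simp
        | succ n ih =>
          intro x
          rw [pow_succ, pow_succ, mul_smul, mul_smul, ht, ih]
      intro x
      rw [hpow, upper_pow_p, one_smul]
    obtain ⟨k, hk⟩ := IsPGroup.iff_card.mp hPp
    have hk0 : k ≠ 0 := by
      rintro rfl
      rw [pow_zero] at hk
      have hbot : PL L = ⊥ := Subgroup.card_eq_one.mp hk
      have hmem : mkG hU ∈ PL L := mem_PL.mpr ⟨l, hU, fun x => mkG_smul hU x⟩
      rw [hbot, Subgroup.mem_bot, eq_one_iff] at hmem
      have := hmem ((0 : K) : OnePoint K)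
      rw [mkG_smul, upper_smul_coe, coe_eq_coe, zero_add] at this
      exact hl this
    rw [hk]
    have hp3 : 3 ≤ p := by
      have := (Fact.out : p.Prime).two_le
      omega
    calc 3 ≤ p := hp3
      _ = p ^ 1 := (pow_one p).symm
      _ ≤ p ^ k := Nat.pow_le_pow_right (by omega) (by omega)

end Cfsg.Agent.Lib.Helper11.Dickson
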