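import Mathlib
import Cfsg.Agent.Lib.Helper11.Dickson.MainD

set_option autoImplicit false
set_option linter.unusedSectionVars false
set_option linter.style.haveILetI false

namespace Cfsg.Agent.Lib.Helper11.Dickson

open Matrix Matrix.GeneralLinearGroup OnePoint MulAction
open scoped MatrixGroups

variable {K : Type*} [Field K] [DecidableEq K]
variable {L : Subgroup (GL (Fin 2) K)}

/-- **Dickson-type lemma**: for `p ≥ 5`, a finite subgroup of `SL₂(K)` containing `[[1,l],[0,1]]`
(`l ≠ 0`) and `[[1,0],[1,1]]` contains `[[1,1],[0,1]]`. -/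
theorem upper_one_mem [IsAlgClosed K] (p : ℕ) [Fact p.Prime] [CharP K p] (hp2 : p ≠ 2)
    (hp3 : p ≠ 3) [Finite L]
    (hdet : ∀ g ∈ L, g.val.det = 1) {l : K} (hl : l ≠ 0) (hU : upperRightHom l ∈ L)
    (hL1 : tL 1 ∈ L) : upperRightHom (1 : K) ∈ L := by
  have h2 : (2 : K) ≠ 0 := by
    intro h
    have h3 : ((2 : ℕ) : K) = 0 := by exact_mod_cast h
    rw [CharP.cast_eq_zero_iff K p] at h3
    have := (Nat.prime_dvd_prime_iff_eq Fact.out Nat.prime_two).mp h3
    exact hp2 this
  haveI : NeZero (2 : K) := ⟨h2⟩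
  haveI : Finite ↥(Gp L) := Gp_finite
  have hF := fixHyp p hp2 hdet hl hU hL1
  -- `|P|` is a power of `p`, hence not `3`
  have hPp : IsPGroup p ↥(PL L) := by
    intro γ
    refine ⟨1, ?_⟩
    obtain ⟨t, -, ht⟩ := mem_PL.mp γ.2
    apply Subtype.ext
    rw [Subgroup.coe_pow, Subgroup.coe_one, pow_one, eq_one_iff]
    have hpow : ∀ (n : ℕ) (x : OnePoint K),
        ((γ : ↥(Gp L)) ^ n) • x = (upperRightHom t) ^ n • x := by
      intro n
      induction n with
      | zero => intro x; simp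
      | succ n ih =>
        intro x
        rw [pow_succ, pow_succ, mul_smul, mul_smul, ht, ih]
    intro x
    rw [hpow, upper_pow_p, one_smul]
  obtain ⟨k, hk⟩ := IsPGroup.iff_card.mp hPp
  have hne3 : Nat.card ↥(PL L) ≠ 3 := by
    rw [hk]
    intro h
    have h3 : p ∣ 3 := by
      rw [← h]
      apply dvd_pow_self
      rintro rfl
      rw [pow_zero] at h
      omega
    exact hp3 ((Nat.prime_dvd_prime_iff_eq Fact.out Nat.prime_three).mp h3)
  rcases hF.card_punct_eq with h3 | hreg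
  · exact absurd h3 hne3
  -- `0` and `1` lie in the punctured orbit
  have h0 : ((0 : K) : OnePoint K) ∈ orbit ↥(Gp L) (∞ : OnePoint K) := by
    have hγ1 : mkG hL1 ≠ (1 : ↥(Gp L)) := by
      intro h
      have := (eq_one_iff _).mp h (∞ : OnePoint K)
      rw [mkG_smul, tL_one_smul_infty] at this
      exact coe_ne_infty _ this
    apply hF.parOrb (mkG hL1) hγ1
    · rw [fixedBy_eq (g := tL 1) (fun x => mkG_smul hL1 x)]
      exact ncard_fixedBy_of_isParabolic (tL_isParabolic one_ne_zero)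
    · rw [mkG_smul, tL_smul_zero]
  have h1 : ((1 : K) : OnePoint K) ∈ orbit ↥(Gp L) (∞ : OnePoint K) :=
    ⟨mkG hL1, by
      show mkG hL1 • (∞ : OnePoint K) = _
      rw [mkG_smul, tL_one_smul_infty]⟩
  obtain ⟨γ, hγ, hγ01⟩ := hF.transitive_of_card hreg h0 (coe_ne_infty _) h1 (coe_ne_infty _)
  obtain ⟨t, htL, ht⟩ := mem_PL.mp hγ
  rw [ht, upper_smul_coe, coe_eq_coe, zero_add] at hγ01
  rw [← hγ01]
  exact htL

end Cfsg.Agent.Lib.Helper11.Dickson
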