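import Mathlib
import Cfsg.Agent.Lib.Helper11.Dickson.MobiusB

set_option autoImplicit false
set_option linter.unusedSectionVars false
set_option linter.style.haveILetI false

namespace Cfsg.Agent.Lib.Helper11.Dickson

open Matrix Matrix.GeneralLinearGroup
open scoped MatrixGroups

section Gen

variable {F : Type*} [Field F]

/-- upper unitriangular in `SL₂` -/
def sU (t : F) : SL(2, F) := ⟨!![1, t; 0, 1], by simp [det_fin_two]⟩

/-- lower unitriangular in `SL₂` -/
def sL (s : F) : SL(2, F) := ⟨!![1, 0; s, 1], by simp [det_fin_two]⟩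

theorem sU_add (s t : F) : sU (s + t) = sU s * sU t := by
  ext i j
  rw [Matrix.SpecialLinearGroup.coe_mul]
  fin_cases i <;> fin_cases j <;> simp [sU, Matrix.mul_apply, Fin.sum_univ_two, add_comm]

theorem sL_add (s t : F) : sL (s + t) = sL s * sL t := by
  ext i j
  rw [Matrix.SpecialLinearGroup.coe_mul]
  fin_cases i <;> fin_cases j <;> simp [sL, Matrix.mul_apply, Fin.sum_univ_two, add_comm]

theorem sU_zero : sU (0 : F) = 1 := by
  apply Subtype.ext
  simp [sU, Matrix.one_fin_two]

theorem sL_zero : sL (0 : F) = 1 := by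
  apply Subtype.ext
  simp [sL, Matrix.one_fin_two]

theorem sU_nat (n : ℕ) : sU (n : F) = sU 1 ^ n := by
  induction n with
  | zero => simp [sU_zero]
  | succ n ih => rw [Nat.cast_succ, sU_add, ih, pow_succ]

theorem sL_nat (n : ℕ) : sL (n : F) = sL 1 ^ n := by
  induction n with
  | zero => simp [sL_zero]
  | succ n ih => rw [Nat.cast_succ, sL_add, ih, pow_succ]

/-- Bruhat-type decomposition when the lower left entry is nonzero -/
theorem eq_mul_of_ne_zero (g : SL(2, F)) (hc : g 1 0 ≠ 0) :
    g = sU ((g 0 0 - 1) / g 1 0) * sL (g 1 0) * sU ((g 1 1 - 1) / g 1 0) := by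
  have hdet := g.det_coe
  rw [det_fin_two] at hdet
  ext i j
  rw [Matrix.SpecialLinearGroup.coe_mul, Matrix.SpecialLinearGroup.coe_mul]
  fin_cases i <;> fin_cases j <;> simp [sU, sL, Matrix.mul_apply, Fin.sum_univ_two]
  · field_simp
    ring
  · field_simp
    linear_combination -hdet
  · field_simp
    ring

/-- `SL₂(F)` is generated by the unitriangular matrices -/
theorem mem_closure_of_forall (S : Subgroup SL(2, F)) (hU : ∀ t : F, sU t ∈ S)
    (hL : ∀ s : F, sL s ∈ S) (g : SL(2, F)) : g ∈ S := by
  by_cases hc : g 1 0 = 0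
  · have hdet := g.det_coe
    rw [det_fin_two, hc, mul_zero, sub_zero] at hdet
    have h00 : g 0 0 ≠ 0 := by
      intro h; rw [h, zero_mul] at hdet; exact zero_ne_one hdet
    obtain ⟨g', hg'⟩ : ∃ g', g' = sL 1 * g := ⟨_, rfl⟩
    have hc' : g' 1 0 ≠ 0 := by
      rw [hg', Matrix.SpecialLinearGroup.coe_mul]
      simp [sL, Matrix.mul_apply, Fin.sum_univ_two, hc, h00]
    have h1 : g' ∈ S := by
      rw [eq_mul_of_ne_zero g' hc']
      exact S.mul_mem (S.mul_mem (hU _) (hL _)) (hU _)
    have h2 : g = (sL 1)⁻¹ * g' := by rw [hg']; group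
    rw [h2]
    exact S.mul_mem (S.inv_mem (hL 1)) h1
  · rw [eq_mul_of_ne_zero g hc]
    exact S.mul_mem (S.mul_mem (hU _) (hL _)) (hU _)

end Gen

section Emb

variable {K : Type*} [Field K] (p : ℕ) [Fact p.Prime] [CharP K p]

/-- the embedding of `SL₂(𝔽_p)` -/
noncomputable def emb : SL(2, ZMod p) →* GL (Fin 2) K :=
  Matrix.SpecialLinearGroup.toGL.comp
    (Matrix.SpecialLinearGroup.map (ZMod.castHom (dvd_refl p) K))

theorem emb_val (g : SL(2, ZMod p)) (i j : Fin 2) :
    (emb (K := K) p g).val i j = ZMod.castHom (dvd_refl p) K (g i j) := rfl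

theorem emb_injective : Function.Injective (emb (K := K) p) := by
  intro g h hgh
  apply Subtype.ext
  ext i j
  have := congrArg (fun m : GL (Fin 2) K => m.val i j) hgh
  simp only [emb_val] at this
  exact (ZMod.castHom (dvd_refl p) K).injective this

theorem emb_sU_one : emb (K := K) p (sU 1) = upperRightHom 1 := by
  apply Units.ext
  ext i j
  rw [emb_val]
  fin_cases i <;> fin_cases j <;> simp [sU, upperRightHom]

theorem emb_sL_one [DecidableEq K] : emb (K := K) p (sL 1) = tL 1 := by
  apply Units.ext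
  ext i j
  rw [emb_val]
  fin_cases i <;> fin_cases j <;> simp [sL, tL]

/-- the image of `SL₂(𝔽_p)` lies in any subgroup containing the two standard transvections -/
theorem emb_range_le [DecidableEq K] (L : Subgroup (GL (Fin 2) K))
    (hU : upperRightHom (1 : K) ∈ L) (hL1 : tL (1 : K) ∈ L) : (emb (K := K) p).range ≤ L := by
  rintro _ ⟨g, rfl⟩
  have : g ∈ L.comap (emb (K := K) p) := by
    apply mem_closure_of_forall
    · intro t
      have : t = ((ZMod.val t : ℕ) : ZMod p) := by simp
      rw [this, sU_nat]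
      apply Subgroup.pow_mem
      rw [Subgroup.mem_comap, emb_sU_one]
      exact hU
    · intro t
      have : t = ((ZMod.val t : ℕ) : ZMod p) := by simp
      rw [this, sL_nat]
      apply Subgroup.pow_mem
      rw [Subgroup.mem_comap, emb_sL_one]
      exact hL1
  exact this

end Emb

end Cfsg.Agent.Lib.Helper11.Dickson
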