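import Mathlib
import Cfsg.Agent.Lib.Helper11.Dickson.MainE
import Cfsg.Agent.Lib.Helper11.Dickson.SL2Gen
import Cfsg.Agent.Lib.Helper88.Involves

set_option autoImplicit false
set_option linter.unusedSectionVars false
set_option linter.style.haveILetI false

namespace Cfsg.Agent.Lib.Helper11.Dickson

open Matrix Matrix.GeneralLinearGroup Cfsg
open scoped MatrixGroups

universe u v

/-- a subgroup of `GL₂` containing the image of `SL₂(𝔽_p)`: involvement in the source group -/
theorem involves_of_emb_range_le {H : Type u} [Group H] {K : Type v} [Field K] (p : ℕ)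
    [Fact p.Prime] [CharP K p] (φ' : H →* GL (Fin 2) K)
    (hle : (emb (K := K) p).range ≤ φ'.range) : Involves SL(2, ZMod p) H := by
  apply Cfsg.Agent.Lib.Helper88.involves_of_spans
  obtain ⟨K₁, hK₁⟩ : ∃ K₁ : Subgroup H, K₁ = (emb (K := K) p).range.comap φ' := ⟨_, rfl⟩
  let e := MonoidHom.ofInjective (emb_injective (K := K) p)
  have hmem : ∀ k : ↥K₁, φ' (k : H) ∈ (emb (K := K) p).range := by
    intro k
    have h1 : (k : H) ∈ K₁ := k.2
    have h2 : (k : H) ∈ (emb (K := K) p).range.comap φ' := hK₁ ▸ h1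
    exact h2
  let f0 : ↥K₁ →* ↥(emb (K := K) p).range :=
    { toFun := fun k => ⟨φ' (k : H), hmem k⟩
      map_one' := by apply Subtype.ext; simp
      map_mul' := fun x y => by apply Subtype.ext; simp }
  refine ⟨↥K₁, inferInstance, K₁.subtype, e.symm.toMonoidHom.comp f0, K₁.subtype_injective, ?_⟩
  intro s
  obtain ⟨h, hh⟩ := hle ⟨s, rfl⟩
  have hhK : h ∈ K₁ := by
    rw [hK₁, Subgroup.mem_comap, hh]
    exact ⟨s, rfl⟩
  refine ⟨⟨h, hhK⟩, ?_⟩
  show e.symm (f0 ⟨h, hhK⟩) = s
  rw [MulEquiv.symm_apply_eq]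
  apply Subtype.ext
  show φ' h = emb (K := K) p s
  exact hh

/-- **Two transvections**, `p ≥ 5`: a finite group with a representation of degree two of
determinant one in characteristic `p` in which two elements act as `[[1,l],[0,1]]` (`l ≠ 0`) and
`[[1,0],[1,1]]` involves `SL₂(p)`. -/
theorem involves_of_rep_ge5 {H : Type u} [Group H] [Finite H] {K : Type v} [Field K] (p : ℕ)
    [Fact p.Prime] [CharP K p] (hp2 : p ≠ 2) (hp3 : p ≠ 3)
    (φ : H →* Matrix (Fin 2) (Fin 2) K) (hdet : ∀ g, (φ g).det = 1) (a b : H) (l : K)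
    (hl : l ≠ 0) (hφa : φ a = !![1, l; 0, 1]) (hφb : φ b = !![1, 0; 1, 1]) :
    Involves SL(2, ZMod p) H := by
  classical
  obtain ⟨f, hf⟩ : ∃ f : K →+* AlgebraicClosure K, f = algebraMap K (AlgebraicClosure K) := ⟨_, rfl⟩
  haveI : CharP (AlgebraicClosure K) p := charP_of_injective_algebraMap
    (algebraMap K (AlgebraicClosure K)).injective p
  obtain ⟨φb, hφb'⟩ : ∃ φb : H →* Matrix (Fin 2) (Fin 2) (AlgebraicClosure K),
      φb = (f.mapMatrix (m := Fin 2)).toMonoidHom.comp φ :=
    ⟨_, rfl⟩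
  obtain ⟨φ', hφ'⟩ : ∃ φ' : H →* GL (Fin 2) (AlgebraicClosure K), φ' = φb.toHomUnits := ⟨_, rfl⟩
  have hval : ∀ h : H, (φ' h).val = (φ h).map f := by
    intro h
    rw [hφ', hφb']
    rfl
  apply involves_of_emb_range_le p φ'
  haveI : Finite ↥φ'.range := by
    apply Finite.of_surjective φ'.rangeRestrict
    exact φ'.rangeRestrict_surjective
  have hdet' : ∀ g ∈ φ'.range, g.val.det = 1 := by
    rintro _ ⟨h, rfl⟩
    rw [hval]
    have := RingHom.map_det f (φ h)
    rw [hdet h, map_one] at this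
    rw [RingHom.mapMatrix_apply] at this
    exact this.symm
  have hfl : f l ≠ 0 := by
    rw [hf]
    intro h
    apply hl
    exact (algebraMap K (AlgebraicClosure K)).injective (by rw [h, map_zero])
  have hU : upperRightHom (f l) ∈ φ'.range := by
    refine ⟨a, ?_⟩
    apply Units.ext
    rw [hval, hφa]
    ext i j
    fin_cases i <;> fin_cases j <;> simp [upperRightHom]
  have hL1 : tL (1 : AlgebraicClosure K) ∈ φ'.range := by
    refine ⟨b, ?_⟩
    apply Units.ext
    rw [hval, hφb]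
    ext i j
    fin_cases i <;> fin_cases j <;> simp [tL]
  have h1 := upper_one_mem p hp2 hp3 hdet' hfl hU hL1
  exact emb_range_le p _ h1 hL1

end Cfsg.Agent.Lib.Helper11.Dickson
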