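import Mathlib
import Cfsg.Agent.Lib.Helper11.Dickson.InvGe5
import Cfsg.Agent.Lib.Helper35.SL23Rec
import Cfsg.Agent.Lib.Helper35.GenRep
import Cfsg.Agent.Lib.Helper2.Frobenius
import Cfsg.Agent.Lib.Helper51.InvolvesT

set_option autoImplicit false
set_option linter.unusedSectionVars false
set_option linter.style.haveILetI false

namespace Cfsg.Agent.Lib.Helper11.Dickson

open Matrix Cfsg
open scoped MatrixGroups

universe u v

/-- a matrix of `p`-power order has trace two -/
theorem trace_eq_two_of_pow_mat {K : Type v} [Field K] {p : ℕ} [Fact p.Prime] [CharP K p]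
    {m : Matrix (Fin 2) (Fin 2) K} {k : ℕ} (h1 : m ^ (p ^ k) = 1) : m.trace = 2 := by
  have h2 : (m - 1) ^ (p ^ k) = 0 := by
    rw [sub_pow_char_pow_of_commute p k (Commute.one_right _), h1, one_pow, sub_self]
  have h3 : IsNilpotent (m - 1) := ⟨_, h2⟩
  have h4 := (Matrix.isNilpotent_trace_of_isNilpotent h3).eq_zero
  rw [trace_sub, trace_one, sub_eq_zero] at h4
  rw [h4]
  simp

/-- an odd order automorphism of a cyclic `2`-group is trivial -/
theorem mulAut_eq_one_of_odd {Q : Type u} [Group Q] [Finite Q] [IsCyclic Q] (hQ : IsPGroup 2 Q)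
    (α : MulAut Q) {n : ℕ} (hn : Odd n) (hα : α ^ n = 1) : α = 1 := by
  have : Fact (Nat.Prime 2) := ⟨Nat.prime_two⟩
  obtain ⟨k, hk⟩ := IsPGroup.iff_card.mp hQ
  have hcard : ∃ j, Nat.card (MulAut Q) = 2 ^ j := by
    rw [IsCyclic.card_mulAut, hk]
    rcases Nat.eq_zero_or_pos k with h0 | h0
    · exact ⟨0, by rw [h0, pow_zero, Nat.totient_one]⟩
    · exact ⟨k - 1, by rw [Nat.totient_prime_pow Nat.prime_two h0]; simp⟩
  obtain ⟨j, hj⟩ := hcard
  haveI : Finite (MulAut Q) := by
    apply Nat.finite_of_card_ne_zero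
    rw [hj]; positivity
  have h1 : orderOf α ∣ n := orderOf_dvd_of_pow_eq_one hα
  have h2 : orderOf α ∣ 2 ^ j := by rw [← hj]; exact orderOf_dvd_natCard α
  have hcop : Nat.Coprime n (2 ^ j) := Nat.Coprime.pow_right j (Nat.coprime_two_right.mpr hn)
  have h3 : orderOf α ∣ 1 := by
    have := Nat.dvd_gcd h1 h2
    rwa [hcop] at this
  exact orderOf_eq_one_iff.mp (Nat.dvd_one.mp h3)


open Cfsg.Agent.Lib.Helper35.GenQuad Cfsg.Agent.Lib.Helper35.Quad2 Cfsg.Agent.Lib.Helper35.OddGL2
  Cfsg.Agent.Lib.Helper2 in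
/-- **Two transvections**, `p = 3`, injective case -/
theorem involves_three_of_injective {X : Type u} [Group X] [Finite X] {K : Type v} [Field K]
    [CharP K 3] (φ : X →* Matrix (Fin 2) (Fin 2) K) (hφ : Function.Injective φ)
    (hdet : ∀ g, (φ g).det = 1) (a b : X) (l : K) (hl : l ≠ 0)
    (hφa : φ a = !![1, l; 0, 1]) (hφb : φ b = !![1, 0; 1, 1]) :
    Involves SL(2, ZMod 3) X := by
  haveI : Fact (Nat.Prime 3) := ⟨Nat.prime_three⟩
  haveI : Fact (Nat.Prime 2) := ⟨Nat.prime_two⟩
  have h2K : (2 : K) ≠ 0 := by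
    intro h
    have h3 : ((2 : ℕ) : K) = 0 := by exact_mod_cast h
    rw [CharP.cast_eq_zero_iff K 3] at h3
    omega
  have hap : a ^ 3 = 1 := hφ (by rw [map_pow, hφa, upper_pow_char, map_one])
  have hbp : b ^ 3 = 1 := hφ (by rw [map_pow, hφb, lower_pow_char, map_one])
  -- Frobenius' condition fails
  have hnF : ¬ FrobCond 2 X := by
    intro hF
    have h1 := not_dvd_card_pResidual_of_frobCond (p := 2) (Nat.card X) X rfl hF
    obtain ⟨M, hM⟩ : ∃ M : Subgroup X, M = pResidual 2 X := ⟨_, rfl⟩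
    rw [← hM] at h1
    have hmem : ∀ c : X, c ^ 3 = 1 → c ∈ M := by
      intro c hc
      rw [hM]
      apply Subgroup.subset_closure
      show Nat.Coprime (orderOf c) 2
      have hd : orderOf c ∣ 3 := orderOf_dvd_of_pow_eq_one hc
      exact Nat.Coprime.coprime_dvd_left hd (by norm_num)
    have hodd : Odd (Nat.card M) := Nat.not_even_iff_odd.mp (fun h => h1 (even_iff_two_dvd.mp h))
    obtain ⟨M₃, hM₃⟩ := exists_pElements_subgroup (F := K) (p := 3) (by norm_num) (Nat.card M)
      ↥M rfl hodd (φ.comp M.subtype) (hφ.comp M.subtype_injective) (fun k => hdet _)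
    have ha3 : (⟨a, hmem a hap⟩ : ↥M) ∈ M₃ := (hM₃ _).mpr ⟨1, by
      apply Subtype.ext
      rw [pow_one, Subgroup.coe_pow, Subgroup.coe_one]
      exact hap⟩
    have hb3 : (⟨b, hmem b hbp⟩ : ↥M) ∈ M₃ := (hM₃ _).mpr ⟨1, by
      apply Subtype.ext
      rw [pow_one, Subgroup.coe_pow, Subgroup.coe_one]
      exact hbp⟩
    obtain ⟨j, hj⟩ := (hM₃ _).mp (M₃.mul_mem ha3 hb3)
    have hj' : (a * b) ^ (3 ^ j) = 1 := by
      have := congrArg Subtype.val hj
      simpa using this
    have h4 : (φ (a * b)) ^ (3 ^ j) = 1 := by rw [← map_pow, hj', map_one]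
    have h5 := trace_eq_two_of_pow_mat (p := 3) h4
    rw [map_mul, hφa, hφb, trace_fin_two] at h5
    simp [Matrix.mul_apply, Fin.sum_univ_two] at h5
    apply hl
    linear_combination h5
  unfold FrobCond at hnF
  push Not at hnF
  obtain ⟨Q, hQ2, g, hgN, hgo, hgC⟩ := hnF
  have hgodd : Odd (orderOf g) := Nat.coprime_two_right.mp hgo
  have hnc : ¬ ∀ q ∈ Q, g * q * g⁻¹ = q := by
    intro h
    apply hgC
    rw [Subgroup.mem_centralizer_iff]
    intro q hq
    have := h q hq
    calc q * g = (g * q * g⁻¹) * g := by rw [this]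
      _ = g * q := by group
  have hQne : Q ≠ ⊥ := by
    rintro rfl
    apply hnc
    intro q hq
    rw [Subgroup.mem_bot.mp hq]; group
  -- the involution
  have h2Q : 2 ∣ Nat.card ↥Q := by
    obtain ⟨k, hk⟩ := IsPGroup.iff_card.mp hQ2
    rw [hk]
    apply dvd_pow_self
    rintro rfl
    rw [pow_zero] at hk
    exact hQne (Subgroup.card_eq_one.mp hk)
  obtain ⟨z', hz'⟩ := exists_prime_orderOf_dvd_card' 2 h2Q
  obtain ⟨z, hz⟩ : ∃ z : X, z = (z' : X) := ⟨_, rfl⟩
  have hzQ : z ∈ Q := by rw [hz]; exact z'.2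
  have hz1 : z ≠ 1 := by
    intro h
    have : z' = 1 := Subtype.ext (by rw [← hz, h]; rfl)
    rw [this, orderOf_one] at hz'
    omega
  have hzz : z * z = 1 := by
    have := pow_orderOf_eq_one z'
    rw [hz', pow_two] at this
    have := congrArg Subtype.val this
    rw [hz]
    simpa using this
  have hinv : ∀ t : X, t * t = 1 → t ≠ 1 → φ t = -1 := by
    intro t ht ht1
    rcases eq_one_or_neg_one_of_sq h2K (φ t) (by rw [← map_mul, ht, map_one]) (hdet t) with h | h
    · exact absurd (hφ (by rw [h, map_one])) ht1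
    · exact h
  have hu : ∀ t ∈ Q, t * t = 1 → t = 1 ∨ t = z := by
    intro t _ ht
    by_cases ht1 : t = 1
    · left; exact ht1
    · right
      apply hφ
      rw [hinv t ht ht1, hinv z hzz hz1]
  -- `Q` is not abelian
  have hna : ∃ n ∈ Q, ∃ m ∈ Q, n * m ≠ m * n := by
    by_contra hcon
    push Not at hcon
    apply hnc
    have hcyc : IsCyclic ↥Q := by
      apply Cfsg.Agent.Lib.Helper53.ui_isCyclic_of_comm hQ2 (z := ⟨z, hzQ⟩)
      · intro t ht
        have ht2 : t ^ 2 = 1 := by
          have := pow_orderOf_eq_one t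
          rwa [ht] at this
        have ht1 : t ≠ 1 := by
          intro h
          rw [h, orderOf_one] at ht
          omega
        have h2' : (t : X) * (t : X) = 1 := by
          have := congrArg Subtype.val ht2
          rw [pow_two] at this
          exact this
        rcases hu t t.2 h2' with h | h
        · exact absurd (Subtype.ext h) ht1
        · exact Subtype.ext h
      · intro x y
        apply Subtype.ext
        exact hcon x x.2 y y.2
    obtain ⟨α, hα⟩ : ∃ α : MulAut ↥Q, α = conjOn Q (Subgroup.normalizer (Q : Set X)) le_rfl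
      ⟨g, hgN⟩ := ⟨_, rfl⟩
    have hαn : α ^ orderOf g = 1 := by
      rw [hα, ← map_pow]
      have : (⟨g, hgN⟩ : ↥(Subgroup.normalizer (Q : Set X))) ^ orderOf g = 1 := by
        apply Subtype.ext
        rw [Subgroup.coe_pow, Subgroup.coe_one]
        exact pow_orderOf_eq_one g
      rw [this, map_one]
    have hα1 := mulAut_eq_one_of_odd hQ2 α hgodd hαn
    intro q hq
    have := congrArg (fun f : MulAut ↥Q => ((f ⟨q, hq⟩ : ↥Q) : X)) hα1
    simp only [hα, conjOn_apply, MulAut.one_apply] at this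
    exact this
  exact Cfsg.Agent.Lib.Helper35.SL23Rec.involves_sl23_of_two_group Q hQ2 hna z hzQ hz1 hzz hu g
    hgN hgodd hnc

end Cfsg.Agent.Lib.Helper11.Dickson
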