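import Mathlib
import Cfsg.Agent.Lib.Helper11.Dickson.InvThree

set_option autoImplicit false
set_option linter.unusedSectionVars false
set_option linter.style.haveILetI false

namespace Cfsg.Agent.Lib.Helper11.Dickson

open Matrix Cfsg Cfsg.Agent.Lib.Helper35.GenQuad
open scoped MatrixGroups

universe u v

/-- **Two transvections**, `p = 3` -/
theorem involves_of_rep_three {H : Type u} [Group H] [Finite H] {K : Type v} [Field K]
    [CharP K 3] (φ : H →* Matrix (Fin 2) (Fin 2) K) (hdet : ∀ g, (φ g).det = 1) (a b : H)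
    (l : K) (hl : l ≠ 0) (hφa : φ a = !![1, l; 0, 1]) (hφb : φ b = !![1, 0; 1, 1]) :
    Involves SL(2, ZMod 3) H := by
  obtain ⟨ψ, hψ⟩ : ∃ ψ : H →* (Matrix (Fin 2) (Fin 2) K)ˣ, ψ = φ.toHomUnits := ⟨_, rfl⟩
  have hψφ : ∀ g : H, ((ψ g : (Matrix (Fin 2) (Fin 2) K)ˣ) : Matrix (Fin 2) (Fin 2) K) = φ g := by
    intro g; rw [hψ]; rfl
  have hφb' : ∀ g : H, ((Units.coeHom _).comp (QuotientGroup.kerLift ψ))
      (QuotientGroup.mk' ψ.ker g) = φ g := by
    intro g
    rw [MonoidHom.comp_apply, QuotientGroup.mk'_apply, QuotientGroup.kerLift_mk]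
    exact hψφ g
  have hinj : Function.Injective ((Units.coeHom (Matrix (Fin 2) (Fin 2) K)).comp
      (QuotientGroup.kerLift ψ)) := by
    intro x y h
    apply QuotientGroup.kerLift_injective ψ
    exact Units.ext h
  apply Cfsg.Agent.Lib.Helper51.involves_of_surjective (QuotientGroup.mk' ψ.ker)
    (QuotientGroup.mk'_surjective _)
  apply involves_three_of_injective _ hinj ?_ (QuotientGroup.mk' ψ.ker a)
    (QuotientGroup.mk' ψ.ker b) l hl
  · rw [hφb', hφa]
  · rw [hφb', hφb]
  · intro g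
    obtain ⟨g, rfl⟩ := QuotientGroup.mk'_surjective ψ.ker g
    rw [hφb']
    exact hdet g

/-- **Two quadratic generators involve `SL₂(p)`** -/
theorem HasRep2.involves {p : ℕ} [Fact p.Prime] (hp2 : p ≠ 2) {H : Type u} [Group H] [Finite H]
    {a b : H} (h : HasRep2 p a b) : Involves SL(2, ZMod p) H := by
  obtain ⟨K, _, _, l, φ, hl, hdet, hφa, hφb⟩ := h
  by_cases hp3 : p = 3
  · subst hp3
    exact involves_of_rep_three φ hdet a b l hl hφa hφb
  · exact involves_of_rep_ge5 p hp2 hp3 φ hdet a b l hl hφa hφb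

end Cfsg.Agent.Lib.Helper11.Dickson
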