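import Mathlib
import Cfsg.Agent.Lib.Helper11.Dickson.Involves
import Cfsg.Agent.Lib.Helper35.GenFinal
import Cfsg.Agent.Lib.Helper35.PStabMain
import Cfsg.Agent.Lib.Helper91.Baer

set_option autoImplicit false
set_option linter.unusedSectionVars false
set_option linter.style.haveILetI false

namespace Cfsg.Agent.Lib.Helper11.Dickson

open Matrix Cfsg Cfsg.Agent.Lib.Helper35.GenQuad Cfsg.Agent.Lib.Helper35
open scoped MatrixGroups commutatorElement

universe u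

variable {G : Type u} [Group G]

/-- **Quadratic elements outside `O_p` produce `SL₂(p)`** (internal form): `H` acts faithfully on
the elementary abelian `p`-group `V`, and `x ∈ H` acts quadratically but does not lie in
`O_p(H)`; then `SL₂(p)` is involved in `H`. -/
theorem quad_involves_internal [Finite G] {p : ℕ} [Fact p.Prime] (hp2 : p ≠ 2) (V H : Subgroup G)
    (hV : IsElementaryAbelian p V) (hHV : H ≤ Subgroup.normalizer (V : Set G))
    (hf : H ⊓ Subgroup.centralizer (V : Set G) = ⊥) (x : G) (hxH : x ∈ H)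
    (hx : ∀ v ∈ V, ⁅x, ⁅x, v⁆⁆ = 1) (hnO : (⟨x, hxH⟩ : ↥H) ∉ pCore p ↥H) :
    ∃ (K L : Subgroup G) (_ : (L.subgroupOf K).Normal), K ≤ H ∧
      Nonempty ((K ⧸ L.subgroupOf K) ≃* SL(2, ZMod p)) := by
  obtain ⟨X₀, hX₀⟩ : ∃ X₀ : Subgroup ↥H, X₀ = Subgroup.zpowers (⟨x, hxH⟩ : ↥H) := ⟨_, rfl⟩
  have hBS : ∃ g : ↥H, ¬ IsPGroup p ↥(X₀ ⊔ X₀.map (MulAut.conj g).toMonoidHom) := by
    by_contra hcon
    push Not at hcon
    obtain ⟨N, hNn, hNp, hXN⟩ := Cfsg.Agent.Lib.Helper91.baer_suzuki X₀ hcon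
    apply hnO
    have h1 : N ≤ pCore p ↥H := le_sSup ⟨hNn, hNp⟩
    apply h1
    apply hXN
    rw [hX₀]
    exact Subgroup.mem_zpowers _
  obtain ⟨g, hg⟩ := hBS
  obtain ⟨y, hy⟩ : ∃ y : G, y = (g : G) * x * (g : G)⁻¹ := ⟨_, rfl⟩
  obtain ⟨H₁, hH₁⟩ : ∃ H₁ : Subgroup G, H₁ = Subgroup.closure {x, y} := ⟨_, rfl⟩
  have hxH₁ : x ∈ H₁ := by rw [hH₁]; exact Subgroup.subset_closure (by simp)
  have hyH₁ : y ∈ H₁ := by rw [hH₁]; exact Subgroup.subset_closure (by simp)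
  have hyH : y ∈ H := by rw [hy]; exact H.mul_mem (H.mul_mem g.2 hxH) (H.inv_mem g.2)
  have hH₁H : H₁ ≤ H := by
    rw [hH₁, Subgroup.closure_le]
    rintro z (rfl | hz)
    · exact hxH
    · rw [Set.mem_singleton_iff] at hz
      rw [hz]; exact hyH
  have hnp : ¬ IsPGroup p ↥H₁ := by
    intro hp
    apply hg
    have hle : X₀ ⊔ X₀.map (MulAut.conj g).toMonoidHom ≤ H₁.subgroupOf H := by
      apply sup_le
      · rw [hX₀, Subgroup.zpowers_le, Subgroup.mem_subgroupOf]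
        exact hxH₁
      · rw [hX₀, MonoidHom.map_zpowers, Subgroup.zpowers_le, Subgroup.mem_subgroupOf]
        show ((MulAut.conj g) ⟨x, hxH⟩ : ↥H).1 ∈ H₁
        rw [MulAut.conj_apply]
        simp only [Subgroup.coe_mul, Subgroup.coe_inv]
        rw [← hy]
        exact hyH₁
    intro w
    have hw : ((w : ↥H) : G) ∈ H₁ := hle w.2
    obtain ⟨k, hk⟩ := hp ⟨_, hw⟩
    refine ⟨k, ?_⟩
    apply Subtype.ext
    apply Subtype.ext
    have := congrArg Subtype.val hk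
    simp only [Subgroup.coe_pow, Subgroup.coe_one] at this ⊢
    exact this
  have hy' : ∀ v ∈ V, ⁅y, ⁅y, v⁆⁆ = 1 := by
    rw [hy]
    exact quad_conj V g x (hHV g.2) hx
  have hf' : H₁ ⊓ Subgroup.centralizer (V : Set G) = ⊥ := by
    rw [eq_bot_iff, ← hf]
    exact inf_le_inf_right _ hH₁H
  have hrep := two_quad_rep_internal V H₁ hV (hH₁H.trans hHV) hf' x y hH₁ hx hy' hnp hxH₁ hyH₁
  have hinv := HasRep2.involves hp2 hrep
  obtain ⟨K, L, hL, hK, e⟩ := exists_section_of_involves_subgroup H₁ hinv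
  exact ⟨K, L, hL, hK.trans hH₁H, e⟩

end Cfsg.Agent.Lib.Helper11.Dickson
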