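import Mathlib
import Cfsg.Agent.Lib.Helper11.Dickson.QuadInv
import Cfsg.Agent.Lib.Helper35.PStabGen

set_option autoImplicit false
set_option linter.unusedSectionVars false
set_option linter.style.haveILetI false

namespace Cfsg.Agent.Lib.Helper11.Dickson

open Matrix Cfsg Cfsg.Agent.Lib.Helper35.GenQuad Cfsg.Agent.Lib.Helper35 Cfsg.Agent.Lib.Helper35.PStab
open scoped MatrixGroups commutatorElement

universe u w

/-- `O_p` of a group acting faithfully and irreducibly on an elementary abelian `p`-group is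
trivial -/
theorem pCore_eq_bot_of_irreducible {p : ℕ} [Fact p.Prime] {H : Type u} [Group H] [Finite H]
    {V : Type w} [CommGroup V] [Finite V] [Nontrivial V] (hVe : ∀ v : V, v ^ p = 1)
    (κb : H →* MulAut V) (hκb : Function.Injective κb)
    (hirr : ∀ U : Subgroup V, (∀ g : H, ∀ v ∈ U, κb g v ∈ U) → U = ⊥ ∨ U = ⊤) :
    pCore p H = ⊥ := by
  have hVp : IsPGroup p V := fun v => ⟨1, by rw [pow_one]; exact hVe v⟩
  have hpV : p ∣ Nat.card V := by
    obtain ⟨n, hn⟩ := IsPGroup.iff_card.mp hVp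
    rw [hn]
    apply dvd_pow_self
    rintro rfl
    rw [pow_zero] at hn
    have := Finite.one_lt_card (α := V)
    omega
  obtain ⟨M, hM⟩ : ∃ M : Subgroup H, M = pCore p H := ⟨_, rfl⟩
  rw [← hM]
  have hMn : M.Normal := by rw [hM]; exact Cfsg.Agent.Lib.Helper22.pCore_normal' p H
  have hMp : IsPGroup p M := by rw [hM]; exact Cfsg.Agent.Lib.Helper22.pCore_isPGroup' p H
  let U : Subgroup V :=
    { carrier := {v | ∀ m ∈ M, κb m v = v}
      one_mem' := fun m _ => map_one _
      mul_mem' := fun {x y} hx hy m hm => by rw [map_mul, hx m hm, hy m hm]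
      inv_mem' := fun {x} hx m hm => by rw [map_inv, hx m hm] }
  have hUinv : ∀ g : H, ∀ v ∈ U, κb g v ∈ U := by
    intro g v hv m hm
    have h1 : g⁻¹ * m * g ∈ M := by
      have := hMn.conj_mem m hm g⁻¹
      rwa [inv_inv] at this
    have h2 := hv _ h1
    have h3 : κb m (κb g v) = κb g (κb (g⁻¹ * m * g) v) := by
      rw [← MulAut.mul_apply, ← MulAut.mul_apply, ← map_mul, ← map_mul]
      congr 2
      group
    rw [h3, h2]
  have hUne : U ≠ ⊥ := by
    letI : MulAction M V := MulAction.compHom V (κb.comp M.subtype)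
    have hfix : (1 : V) ∈ MulAction.fixedPoints M V := by
      intro m
      show κb (m : H) 1 = 1
      exact map_one _
    obtain ⟨b, hb, hb1⟩ := hMp.exists_fixed_point_of_prime_dvd_card_of_fixed_point V hpV hfix
    intro hbot
    have hbU : b ∈ U := by
      intro m hm
      exact hb ⟨m, hm⟩
    rw [hbot, Subgroup.mem_bot] at hbU
    exact hb1 hbU.symm
  rcases hirr U hUinv with h | h
  · exact absurd h hUne
  · rw [eq_bot_iff]
    intro m hm
    have : κb m = 1 := by
      ext v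
      have hv : v ∈ U := by rw [h]; exact Subgroup.mem_top v
      exact hv m hm
    rw [Subgroup.mem_bot]
    exact hκb (by rw [this, map_one])

/-- **Quadratic elements outside `O_p` produce `SL₂(p)`**, abstract form -/
theorem quad_involves_abstract {p : ℕ} [Fact p.Prime] (hp2 : p ≠ 2) {H : Type u} [Group H]
    [Finite H] {V : Type w} [CommGroup V] [Finite V] (hVe : ∀ v : V, v ^ p = 1)
    (κ : H →* MulAut V) (hκ : Function.Injective κ) (a : H)
    (ha : ∀ v : V, κ a (κ a v * v⁻¹) = κ a v * v⁻¹) (hnO : a ∉ pCore p H) :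
    Involves SL(2, ZMod p) H := by
  obtain ⟨X₀, hX₀⟩ : ∃ X₀ : Subgroup H, X₀ = Subgroup.zpowers a := ⟨_, rfl⟩
  have hBS : ∃ g : H, ¬ IsPGroup p ↥(X₀ ⊔ X₀.map (MulAut.conj g).toMonoidHom) := by
    by_contra hcon
    push Not at hcon
    obtain ⟨N, hNn, hNp, hXN⟩ := Cfsg.Agent.Lib.Helper91.baer_suzuki X₀ hcon
    apply hnO
    have h1 : N ≤ pCore p H := le_sSup ⟨hNn, hNp⟩
    apply h1
    apply hXN
    rw [hX₀]
    exact Subgroup.mem_zpowers _
  obtain ⟨g, hg⟩ := hBS
  obtain ⟨b, hb⟩ : ∃ b : H, b = g * a * g⁻¹ := ⟨_, rfl⟩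
  obtain ⟨H₁, hH₁⟩ : ∃ H₁ : Subgroup H, H₁ = Subgroup.closure {a, b} := ⟨_, rfl⟩
  have haH₁ : a ∈ H₁ := by rw [hH₁]; exact Subgroup.subset_closure (by simp)
  have hbH₁ : b ∈ H₁ := by rw [hH₁]; exact Subgroup.subset_closure (by simp)
  have hnp : ¬ IsPGroup p ↥H₁ := by
    intro hp
    apply hg
    apply hp.to_le
    apply sup_le
    · rw [hX₀, Subgroup.zpowers_le]; exact haH₁
    · rw [hX₀, MonoidHom.map_zpowers, Subgroup.zpowers_le]
      show (MulAut.conj g) a ∈ H₁
      rw [MulAut.conj_apply, ← hb]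
      exact hbH₁
  have hb' : ∀ v : V, κ b (κ b v * v⁻¹) = κ b v * v⁻¹ := by
    intro v
    obtain ⟨w, hw⟩ : ∃ w : V, w = κ g⁻¹ v := ⟨_, rfl⟩
    have hv : v = κ g w := by
      rw [hw, ← MulAut.mul_apply, ← map_mul, mul_inv_cancel, map_one]; rfl
    have e1 : ∀ u : V, κ b (κ g u) = κ g (κ a u) := by
      intro u
      rw [hb, ← MulAut.mul_apply, ← MulAut.mul_apply, ← map_mul, ← map_mul]
      congr 2
      group
    rw [hv, e1, ← map_inv, ← map_mul, e1, ha]
  obtain ⟨κ₁, hκ₁⟩ : ∃ κ₁ : ↥H₁ →* MulAut V, κ₁ = κ.comp H₁.subtype := ⟨_, rfl⟩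
  rcases gen_abstract' hVe κ₁ ⟨a, haH₁⟩ ⟨b, hbH₁⟩ (closure_pair_eq_top H₁ a b hH₁ haH₁ hbH₁)
    (by rw [hκ₁]; exact ha) (by rw [hκ₁]; exact hb') with ⟨j, hj⟩ | hrep
  · exfalso
    apply hnp
    intro d
    refine ⟨j, ?_⟩
    apply Subtype.ext
    apply hκ
    have := hj d
    rw [hκ₁, ← map_pow] at this
    rw [Subgroup.coe_one, map_one, ← this]
    rfl
  · have hinv := HasRep2.involves hp2 hrep
    exact Cfsg.Agent.Lib.Helper51.involves_of_injective H₁.subtype H₁.subtype_injective hinv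

/-- groups not involving `SL₂(p)` -/
def NoSL2 (p : ℕ) (X : Type u) [Group X] : Prop := ¬ Involves SL(2, ZMod p) X

/-- the class of groups not involving `SL₂(p)` is a class in which `p`-stability holds -/
theorem stabClass_noSL2 {p : ℕ} [Fact p.Prime] (hp2 : p ≠ 2) :
    StabClass.{u} p (fun X _ => NoSL2 p X) where
  quot := by
    intro X _ _ N _ hX hinv
    exact hX (Cfsg.Agent.Lib.Helper51.involves_of_surjective (QuotientGroup.mk' N)
      (QuotientGroup.mk'_surjective N) hinv)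
  min := by
    intro X _ _ hX V _ _ _ hVe κ hirr a hq
    by_contra hne
    obtain ⟨κb, hκb'⟩ : ∃ κb : X ⧸ κ.ker →* MulAut V, κb = QuotientGroup.kerLift κ := ⟨_, rfl⟩
    have hκb : Function.Injective κb := by rw [hκb']; exact QuotientGroup.kerLift_injective κ
    have hκmk : ∀ g : X, κb (QuotientGroup.mk g) = κ g := fun g => by
      rw [hκb']; exact QuotientGroup.kerLift_mk κ g
    have hOp : pCore p (X ⧸ κ.ker) = ⊥ := by
      apply pCore_eq_bot_of_irreducible hVe κb hκb
      intro U hU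
      apply hirr U
      intro g v hv
      rw [← hκmk]
      exact hU _ v hv
    apply hX
    apply Cfsg.Agent.Lib.Helper51.involves_of_surjective (QuotientGroup.mk' κ.ker)
      (QuotientGroup.mk'_surjective _)
    apply quad_involves_abstract hp2 hVe κb hκb (QuotientGroup.mk a)
    · intro v
      rw [hκmk]
      exact hq v
    · rw [hOp, Subgroup.mem_bot]
      intro h
      apply hne
      rw [← hκmk, h, map_one]

end Cfsg.Agent.Lib.Helper11.Dickson
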