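import Mathlib
import Cfsg.Agent.Lib.Helper11.Dickson.StabSL2
import Cfsg.Prelude.Def_LocalEven

set_option autoImplicit false
set_option linter.unusedSectionVars false
set_option linter.style.haveILetI false

namespace Cfsg.Agent.Lib.Helper11.Dickson

open Matrix Cfsg Cfsg.Agent.Lib.Helper35 Cfsg.Agent.Lib.Helper35.PStab
open scoped MatrixGroups commutatorElement

universe u

/-- normalizer-form `p`-stability when the normalizers of the nonidentity `p`-subgroups do not
involve `SL₂(p)` -/
theorem isNormalizerPStable_of_noSL2 {Y : Type u} [Group Y] [Finite Y] {p : ℕ} [Fact p.Prime]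
    (hp2 : p ≠ 2)
    (h : ∀ P : Subgroup Y, IsPGroup p P → P ≠ ⊥ →
      NoSL2 p ↥(Subgroup.normalizer (P : Set Y))) : IsNormalizerPStable p Y := by
  intro P hP g hg hquad
  by_cases hPbot : P = ⊥
  · have h1 : (QuotientGroup.mk (s := (Subgroup.centralizer (P : Set Y)).subgroupOf
        (Subgroup.normalizer (P : Set Y))) (⟨g, hg⟩ : ↥(Subgroup.normalizer (P : Set Y)))) = 1 := by
      rw [QuotientGroup.eq_one_iff, Subgroup.mem_subgroupOf, Subgroup.mem_centralizer_iff]
      intro y hy
      rw [hPbot] at hy
      have : y = 1 := hy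
      rw [this, one_mul, mul_one]
    rw [h1]
    exact Subgroup.one_mem _
  · obtain ⟨N, hN⟩ : ∃ N : Subgroup Y, N = Subgroup.normalizer (P : Set Y) := ⟨_, rfl⟩
    have hX : NoSL2 p ↥(Subgroup.normalizer (P : Set Y)) := h P hP hPbot
    obtain ⟨P', hP'⟩ : ∃ P' : Subgroup ↥(Subgroup.normalizer (P : Set Y)),
        P' = P.subgroupOf (Subgroup.normalizer (P : Set Y)) := ⟨_, rfl⟩
    haveI hP'n : P'.Normal := by rw [hP']; exact Subgroup.normal_in_normalizer
    have hP'p : IsPGroup p P' := by
      rw [hP']
      exact hP.comap_subtype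
    have hq := quad_of_commutator P (Subgroup.zpowers g) hquad g (Subgroup.mem_zpowers g)
    have hq' : ∀ v ∈ P', ⁅(⟨g, hg⟩ : ↥(Subgroup.normalizer (P : Set Y))),
        ⁅(⟨g, hg⟩ : ↥(Subgroup.normalizer (P : Set Y))), v⁆⁆ = 1 := by
      intro v hv
      rw [hP', Subgroup.mem_subgroupOf] at hv
      apply Subtype.ext
      have := hq (v : Y) hv
      simpa [commutatorElement_def] using this
    have hmem := (stabClass_noSL2.{u} hp2).mem_pCore_quotient hX P' hP'p ⟨g, hg⟩ hq'
    have hceq : Subgroup.centralizer (P' : Set ↥(Subgroup.normalizer (P : Set Y))) =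
        (Subgroup.centralizer (P : Set Y)).subgroupOf (Subgroup.normalizer (P : Set Y)) := by
      ext x
      rw [Subgroup.mem_subgroupOf, Subgroup.mem_centralizer_iff, Subgroup.mem_centralizer_iff]
      constructor
      · intro hx y hy
        have := hx ⟨y, Subgroup.le_normalizer hy⟩ (by rw [hP']; exact Subgroup.mem_subgroupOf.mpr hy)
        exact congrArg Subtype.val this
      · intro hx y hy
        rw [hP'] at hy
        exact Subtype.ext (hx (y : Y) (Subgroup.mem_subgroupOf.mp hy))
    have key : ∀ (S : Subgroup ↥(Subgroup.normalizer (P : Set Y))) [S.Normal],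
        Subgroup.centralizer (P' : Set ↥(Subgroup.normalizer (P : Set Y))) = S →
        (QuotientGroup.mk (s := S) (⟨g, hg⟩ : ↥(Subgroup.normalizer (P : Set Y)))) ∈
          pCore p (↥(Subgroup.normalizer (P : Set Y)) ⧸ S) := by
      intro S _ hS
      subst hS
      exact hmem
    exact key _ hceq

end Cfsg.Agent.Lib.Helper11.Dickson
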