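import Mathlib
import Cfsg.Agent.Lib.Helper11.Dickson.NPS
import Cfsg.Agent.Lib.Helper33.SecBasic

set_option autoImplicit false
set_option linter.unusedSectionVars false
set_option linter.style.haveILetI false

namespace Cfsg.Agent.Lib.Helper11.Dickson

open Matrix Cfsg
open scoped MatrixGroups commutatorElement

universe u

/-- the hypothesis "normalizers of nonidentity `p`-subgroups do not involve `SL₂(p)`" passes to
homomorphic images -/
theorem noSL2_normalizer_of_surjective {A Y : Type u} [Group A] [Finite A] [Group Y] [Finite Y]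
    {p : ℕ} [Fact p.Prime] (π : A →* Y) (hπ : Function.Surjective π)
    (hA : ∀ P : Subgroup A, IsPGroup p P → P ≠ ⊥ →
      NoSL2 p ↥(Subgroup.normalizer (P : Set A)))
    (Pb : Subgroup Y) (hPb : IsPGroup p Pb) (hPb1 : Pb ≠ ⊥) :
    NoSL2 p ↥(Subgroup.normalizer (Pb : Set Y)) := by
  obtain ⟨Pt, hPt⟩ : ∃ Pt : Subgroup A, Pt = Pb.comap π := ⟨_, rfl⟩
  obtain ⟨S⟩ : Nonempty (Sylow p ↥Pt) := inferInstance
  obtain ⟨P₁, hP₁⟩ : ∃ P₁ : Subgroup A, P₁ = (S : Subgroup ↥Pt).map Pt.subtype := ⟨_, rfl⟩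
  have hP₁Pt : P₁ ≤ Pt := by rw [hP₁]; exact Subgroup.map_subtype_le _
  have hP₁p : IsPGroup p P₁ := by rw [hP₁]; exact S.2.map _
  have hsub : P₁.subgroupOf Pt = (S : Subgroup ↥Pt) := by
    ext x
    rw [Subgroup.mem_subgroupOf, hP₁]
    constructor
    · rintro ⟨y, hy, hyx⟩
      have : y = x := Subtype.ext hyx
      rwa [← this]
    · intro hx
      exact ⟨x, hx, rfl⟩
  have hP₁i : ¬ p ∣ P₁.relIndex Pt := by
    unfold Subgroup.relIndex
    rw [hsub]
    exact S.not_dvd_index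
  -- the image of `P₁` is `Pb`
  have hmapP₁ : ∀ yb ∈ Pb, ∃ z ∈ P₁, π z = yb := by
    let f : ↥Pt →* ↥Pb := (π.comp Pt.subtype).codRestrict Pb (fun x => by
      have h1 : (x : A) ∈ Pt := x.2
      have h2 : (x : A) ∈ Pb.comap π := hPt ▸ h1
      exact h2)
    have hf : Function.Surjective f := by
      rintro ⟨yb, hyb⟩
      obtain ⟨x, rfl⟩ := hπ yb
      exact ⟨⟨x, by rw [hPt]; exact hyb⟩, rfl⟩
    have h1 : ((S : Subgroup ↥Pt).map f).index ∣ (S : Subgroup ↥Pt).index :=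
      Subgroup.index_map_dvd _ hf
    have h2 : ((S : Subgroup ↥Pt).map f).index ∣ Nat.card ↥Pb := Subgroup.index_dvd_card _
    obtain ⟨n, hn⟩ := IsPGroup.iff_card.mp hPb
    rw [hn] at h2
    obtain ⟨j, -, hj⟩ := (Nat.dvd_prime_pow Fact.out).mp h2
    have hj0 : j = 0 := by
      by_contra hne
      have h3 : p ∣ ((S : Subgroup ↥Pt).map f).index := by rw [hj]; exact dvd_pow_self p hne
      exact S.not_dvd_index (dvd_trans h3 h1)
    rw [hj0, pow_zero] at hj
    have htop : (S : Subgroup ↥Pt).map f = ⊤ := Subgroup.index_eq_one.mp hj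
    intro yb hyb
    have : (⟨yb, hyb⟩ : ↥Pb) ∈ (S : Subgroup ↥Pt).map f := by rw [htop]; exact Subgroup.mem_top _
    obtain ⟨s, hs, hsy⟩ := this
    refine ⟨(s : A), by rw [hP₁]; exact ⟨s, hs, rfl⟩, ?_⟩
    exact congrArg Subtype.val hsy
  have hP₁1 : P₁ ≠ ⊥ := by
    intro hbot
    apply hPb1
    rw [eq_bot_iff]
    intro yb hyb
    obtain ⟨z, hz, rfl⟩ := hmapP₁ yb hyb
    rw [hbot, Subgroup.mem_bot] at hz
    rw [hz, map_one]
    exact Subgroup.one_mem _
  obtain ⟨Nt, hNt⟩ : ∃ Nt : Subgroup A, Nt = (Subgroup.normalizer (Pb : Set Y)).comap π := ⟨_, rfl⟩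
  have hHM : Nt ≤ Subgroup.normalizer (Pt : Set A) := by
    intro x hx
    rw [hNt, Subgroup.mem_comap, Subgroup.mem_normalizer_iff] at hx
    rw [Subgroup.mem_normalizer_iff]
    intro y
    rw [hPt, Subgroup.mem_comap, Subgroup.mem_comap, map_mul, map_mul, map_inv]
    exact hx (π y)
  have hMH : Pt ≤ Nt := by
    intro y hy
    rw [hPt, Subgroup.mem_comap] at hy
    rw [hNt, Subgroup.mem_comap]
    exact Subgroup.le_normalizer hy
  obtain ⟨M₀, hM₀⟩ : ∃ M₀ : Subgroup A, M₀ = Nt ⊓ Subgroup.normalizer (P₁ : Set A) := ⟨_, rfl⟩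
  have hM₀N : ∀ y : ↥M₀, π (y : A) ∈ Subgroup.normalizer (Pb : Set Y) := by
    intro y
    have h1 : (y : A) ∈ M₀ := y.2
    have h2 : (y : A) ∈ Nt ⊓ Subgroup.normalizer (P₁ : Set A) := hM₀ ▸ h1
    have h3 : (y : A) ∈ (Subgroup.normalizer (Pb : Set Y)).comap π := hNt ▸ h2.1
    exact h3
  let ρ : ↥M₀ →* ↥(Subgroup.normalizer (Pb : Set Y)) :=
    (π.comp M₀.subtype).codRestrict _ hM₀N
  have hρ : Function.Surjective ρ := by
    rintro ⟨nb, hnb⟩
    obtain ⟨x, rfl⟩ := hπ nb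
    have hxNt : x ∈ Nt := by rw [hNt, Subgroup.mem_comap]; exact hnb
    obtain ⟨x₁, hx₁, y, hy, hxy⟩ :=
      Cfsg.Agent.Lib.Helper33.frattini_gen hHM hMH hP₁Pt hP₁p hP₁i hxNt
    have hx₁' : π x₁ ∈ Pb := by rw [hPt] at hx₁; exact hx₁
    obtain ⟨z, hz, hzx⟩ := hmapP₁ _ hx₁'
    have hzM : z ∈ M₀ := by
      rw [hM₀, Subgroup.mem_inf]
      exact ⟨hMH (hP₁Pt hz), Subgroup.le_normalizer hz⟩
    have hyM : y ∈ M₀ := by rw [hM₀]; exact hy
    refine ⟨⟨z * y, M₀.mul_mem hzM hyM⟩, ?_⟩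
    apply Subtype.ext
    show π (z * y) = π x
    rw [map_mul, hzx, hxy, map_mul]
  intro hinv
  have h1 := Cfsg.Agent.Lib.Helper51.involves_of_surjective ρ hρ hinv
  have hle : M₀ ≤ Subgroup.normalizer (P₁ : Set A) := by rw [hM₀]; exact inf_le_right
  have h2 := Cfsg.Agent.Lib.Helper51.involves_of_injective (Subgroup.inclusion hle)
    (Subgroup.inclusion_injective hle) h1
  exact hA P₁ hP₁p hP₁1 h2

/-- the hypothesis passes to subgroups -/
theorem noSL2_normalizer_subgroup {G : Type u} [Group G] {p : ℕ} [Fact p.Prime]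
    (hG : ∀ P : Subgroup G, IsPGroup p P → P ≠ ⊥ →
      NoSL2 p ↥(Subgroup.normalizer (P : Set G))) (K : Subgroup G)
    (P : Subgroup ↥K) (hP : IsPGroup p P) (hP1 : P ≠ ⊥) :
    NoSL2 p ↥(Subgroup.normalizer (P : Set ↥K)) := by
  intro hinv
  have hP' : IsPGroup p (P.map K.subtype) := hP.map _
  have hP'1 : P.map K.subtype ≠ ⊥ := by
    intro h
    apply hP1
    rwa [Subgroup.map_eq_bot_iff_of_injective _ K.subtype_injective] at h
  have hn : ∀ x : ↥(Subgroup.normalizer (P : Set ↥K)),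
      ((x : ↥K) : G) ∈ Subgroup.normalizer ((P.map K.subtype : Subgroup G) : Set G) := by
    intro x
    exact Subgroup.le_normalizer_map K.subtype ⟨x, x.2, rfl⟩
  let ι : ↥(Subgroup.normalizer (P : Set ↥K)) →*
      ↥(Subgroup.normalizer ((P.map K.subtype : Subgroup G) : Set G)) :=
    (K.subtype.comp (Subgroup.subtype _)).codRestrict _ hn
  have hι : Function.Injective ι := by
    intro x y hxy
    apply Subtype.ext
    apply Subtype.ext
    have := congrArg Subtype.val hxy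
    exact this
  exact hG _ hP' hP'1 (Cfsg.Agent.Lib.Helper51.involves_of_injective ι hι hinv)

end Cfsg.Agent.Lib.Helper11.Dickson
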