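import Mathlib
import Cfsg.Agent.Lib.Helper11.Dickson.NPS2
import Cfsg.Prelude.Def_Local

set_option autoImplicit false
set_option linter.unusedSectionVars false
set_option linter.style.haveILetI false

namespace Cfsg.Agent.Lib.Helper11.Dickson

open Matrix Cfsg Cfsg.Agent.Lib.Helper35 Cfsg.Agent.Lib.Helper35.PStab
open scoped MatrixGroups commutatorElement

universe u

/-- a quadratic element of the normalizer of a `p`-subgroup `P` maps into `O_p(N(P)/C(P))`, if
`N(P)` does not involve `SL₂(p)` -/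
theorem quad_mem_pCore {Y : Type u} [Group Y] [Finite Y] {p : ℕ} [Fact p.Prime] (hp2 : p ≠ 2)
    (P : Subgroup Y) (hP : IsPGroup p P)
    (hX : NoSL2 p ↥(Subgroup.normalizer (P : Set Y))) (g : Y)
    (hg : g ∈ Subgroup.normalizer (P : Set Y)) (hq : ∀ v ∈ P, ⁅g, ⁅g, v⁆⁆ = 1) :
    (QuotientGroup.mk (s := (Subgroup.centralizer (P : Set Y)).subgroupOf
        (Subgroup.normalizer (P : Set Y))) (⟨g, hg⟩ : ↥(Subgroup.normalizer (P : Set Y)))) ∈
      pCore p (↥(Subgroup.normalizer (P : Set Y)) ⧸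
        (Subgroup.centralizer (P : Set Y)).subgroupOf (Subgroup.normalizer (P : Set Y))) := by
  obtain ⟨P', hP'⟩ : ∃ P' : Subgroup ↥(Subgroup.normalizer (P : Set Y)),
      P' = P.subgroupOf (Subgroup.normalizer (P : Set Y)) := ⟨_, rfl⟩
  haveI hP'n : P'.Normal := by rw [hP']; exact Subgroup.normal_in_normalizer
  have hP'p : IsPGroup p P' := by
    rw [hP']
    exact hP.comap_subtype
  have hq' : ∀ v ∈ P', ⁅(⟨g, hg⟩ : ↥(Subgroup.normalizer (P : Set Y))),
      ⁅(⟨g, hg⟩ : ↥(Subgroup.normalizer (P : Set Y))), v⁆⁆ = 1 := by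
    intro v hv
    rw [hP', Subgroup.mem_subgroupOf] at hv
    apply Subtype.ext
    have := hq (v : Y) hv
    simpa [commutatorElement_def] using this
  have hmem := (stabClass_noSL2.{u} hp2).mem_pCore_quotient hX P' hP'p ⟨g, hg⟩ hq'
  have hceq : Subgroup.centralizer (P' : Set ↥(Subgroup.normalizer (P : Set Y))) =
      (Subgroup.centralizer (P : Set Y)).subgroupOf (Subgroup.normalizer (P : Set Y)) := by
    ext x
    rw [Subgroup.mem_subgroupOf, Subgroup.mem_centralizer_iff, Subgroup.mem_centralizer_iff]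
    constructor
    · intro hx y hy
      have := hx ⟨y, Subgroup.le_normalizer hy⟩ (by rw [hP']; exact Subgroup.mem_subgroupOf.mpr hy)
      exact congrArg Subtype.val this
    · intro hx y hy
      rw [hP'] at hy
      exact Subtype.ext (hx (y : Y) (Subgroup.mem_subgroupOf.mp hy))
  have key : ∀ (S : Subgroup ↥(Subgroup.normalizer (P : Set Y))) [S.Normal],
      Subgroup.centralizer (P' : Set ↥(Subgroup.normalizer (P : Set Y))) = S →
      (QuotientGroup.mk (s := S) (⟨g, hg⟩ : ↥(Subgroup.normalizer (P : Set Y)))) ∈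
        pCore p (↥(Subgroup.normalizer (P : Set Y)) ⧸ S) := by
    intro S _ hS
    subst hS
    exact hmem
  exact key _ hceq

/-- a group not involving `SL₂(p)` with `O_p ≠ 1` is `p`-stable -/
theorem isPStable_of_noSL2 {Y : Type u} [Group Y] [Finite Y] {p : ℕ} [Fact p.Prime] (hp2 : p ≠ 2)
    (hY : NoSL2 p Y) (hO : pCore p Y ≠ ⊥) : IsPStable p Y := by
  refine ⟨?_, hO, ?_⟩
  · rcases (Fact.out : p.Prime).eq_two_or_odd' with h | h
    · exact absurd h hp2
    · exact h
  · intro A P _ hP hAP _ _ hquad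
    rintro _ ⟨a, ha, rfl⟩
    have ha : (a : Y) ∈ A := Subgroup.mem_subgroupOf.mp ha
    have hX : NoSL2 p ↥(Subgroup.normalizer (P : Set Y)) := by
      intro hinv
      exact hY (Cfsg.Agent.Lib.Helper51.involves_of_injective (Subgroup.subtype _)
        (Subgroup.subtype_injective _) hinv)
    have hq := quad_of_commutator P A hquad (a : Y) ha
    exact quad_mem_pCore hp2 P hP hX (a : Y) a.2 hq

end Cfsg.Agent.Lib.Helper11.Dickson
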